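import Cfsg.Agent.OrthFix.TS.Pair

/-!
Elements with few invariant totally singular subspaces: blocks of pairwise different classes.
-/

set_option autoImplicit false
set_option linter.unusedSectionVars false
set_option linter.style.haveILetI false

namespace Cfsg.Agent.OrthFix.TS

open QuadraticMap Polynomial
open Cfsg.Agent.UnitaryOrthogonal (PolarND orth form_add)

universe u v w

variable {F : Type u} [Field F] [Fintype F] {r i c : ℕ} {b : ℤ}
variable {V : Type v} [AddCommGroup V] [Module F V] [FiniteDimensional F V] [Finite V]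
  {Q : QuadraticForm F V}

omit [FiniteDimensional F V] [Finite V] in
theorem aeval_semiconj {V' : Type w} [AddCommGroup V'] [Module F V'] {f : Module.End F V}
    {f' : Module.End F V'} (L : V' →ₗ[F] V) (h : ∀ x, L (f' x) = f (L x)) (p : F[X]) :
    ∀ x, aeval f p (L x) = L (aeval f' p x) := by
  have hpow : ∀ (n : ℕ) x, (f ^ n) (L x) = L ((f' ^ n) x) := by
    intro n
    induction n with
    | zero => intro x; rfl
    | succ n ih => intro x; rw [pow_succ, pow_succ, Module.End.mul_apply, Module.End.mul_apply, ← h, ih]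
  intro x
  induction p using Polynomial.induction_on' with
  | add p q hp hq => simp only [map_add, LinearMap.add_apply, hp, hq]
  | monomial n a =>
    simp only [aeval_monomial, Module.End.mul_apply, Module.algebraMap_end_apply, hpow, map_smul]

/-- An isometry of `V` that is `h` on `B` and trivial on its perpendicular. -/
theorem exists_block_glue (S : Setup F r i c b) {B : Submodule F V} (hB : NDOn Q B)
    (h : orth (Q.comp B.subtype)) (hr : h ^ r = 1) :
    ∃ k : orth Q, k ^ r = 1 ∧ (∀ x ∈ B, k.1 x ∈ B) ∧ (∀ x ∈ perp Q B, k.1 x = x) ∧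
      (∀ x (hx : x ∈ B), k.1 x = h.1 ⟨x, hx⟩) ∧
      ∀ (p : F[X]) x (hx : x ∈ B), aeval (toEnd Q k) p x = aeval (toEnd _ h) p ⟨x, hx⟩ := by
  refine ⟨glue hB h, by rw [← map_pow, hr, map_one], fun x hx => ?_, fun x hx => glue_of_perp hB h hx,
    fun x hx => glue_of_mem hB h hx, fun p x hx => ?_⟩
  · rw [glue_of_mem hB h hx]; exact Subtype.coe_prop _
  · exact aeval_semiconj (f := toEnd Q (glue hB h)) (f' := toEnd _ h) B.subtype
      (fun y => (glue_of_mem hB h y.2).symm) p ⟨x, hx⟩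

/-- The classes of fixed-point-free blocks. -/
theorem exists_classes (S : Setup F r i c b) (hi : Even i) :
    ∃ P : Fin ((r - 1) / i) → F[X], Function.Injective P ∧ (∀ a, (P a).Monic ∧ Irreducible (P a)) ∧
      ∀ {V : Type v} [AddCommGroup V] [Module F V] [FiniteDimensional F V] [Finite V]
        {Q : QuadraticForm F V} {B : Submodule F V}, NDOn Q B → SigOn Q B b → Module.finrank F B = c →
        ∀ a, ∃ k : orth Q, k ^ r = 1 ∧ (∀ x ∈ B, k.1 x ∈ B) ∧ (∀ x ∈ perp Q B, k.1 x = x) ∧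
          (∀ x ∈ B, k.1 x = x → x = 0) ∧ ∀ x ∈ B, aeval (toEnd Q k) (P a) x = 0 := by
  classical
  haveI : Fact r.Prime := ⟨S.prime⟩
  have hc : c = i := by rw [S.hc, if_pos hi]
  obtain ⟨Q₀, hQ₀, hs₀⟩ := exists_form (F := F) (n := c) (ε := b)
    ⟨S.unit, fun h => absurd h S.c_pos.ne', fun h => absurd S.c_even (Nat.not_even_iff_odd.2 h)⟩
  have hd₀ : Module.finrank F (Fin c → F) = c := by
    rw [Module.finrank_fintype_fun_eq_card, Fintype.card_fin]
  obtain ⟨h₀, hh₀, -, hfix₀, -⟩ := exists_block_elem S (ndOn_top hQ₀) (sigOn_top hs₀) (by rw [finrank_top, hd₀])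
  have hinv₀ : ∀ x ∈ (⊤ : Submodule F (Fin c → F)), h₀.1 x ∈ (⊤ : Submodule F (Fin c → F)) :=
    fun _ _ => trivial
  -- an irreducible polynomial killing `h₀`
  obtain ⟨v, -, hv⟩ : ∃ v ∈ (⊤ : Submodule F (Fin c → F)), v ≠ 0 :=
    (Submodule.ne_bot_iff _).1 fun e => by
      have := congrArg (fun U : Submodule F (Fin c → F) => Module.finrank F U) e
      simp only [finrank_top, finrank_bot, hd₀] at this
      exact S.c_pos.ne' this
  obtain ⟨hgeo, -⟩ := natDegree_geom (F := F) S.prime.pos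
  obtain ⟨P₀, A, hP₀, hA, hPA⟩ := exists_killed (g := h₀) _ _ hgeo rfl v hv
    (geom_kills hh₀ hinv₀ hfix₀ v trivial)
  obtain ⟨hdeg, M, -, -, -, hMd, hMk⟩ := cyclic S hh₀ hinv₀ hfix₀ hP₀ (v := aeval (toEnd Q₀ h₀) A v)
    trivial hA hPA
  have hMtop : M = ⊤ := Submodule.eq_top_of_finrank_eq (by rw [hMd, hd₀, hc])
  have hkill : aeval (toEnd Q₀ h₀) P₀ = 0 := LinearMap.ext fun x => hMk x (hMtop ▸ trivial)
  haveI : Fact (Irreducible P₀) := ⟨hP₀⟩
  haveI : FiniteDimensional F (AdjoinRoot P₀) := (AdjoinRoot.powerBasis hP₀.ne_zero).finite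
  have hK : Module.finrank F (AdjoinRoot P₀) = i := by
    rw [(AdjoinRoot.powerBasis hP₀.ne_zero).finrank, AdjoinRoot.powerBasis_dim, hdeg]
  set ξ : AdjoinRoot P₀ := AdjoinRoot.root P₀ with hξ
  have hdvd : ∀ p : F[X], aeval ξ p = 0 → aeval (toEnd Q₀ h₀) p = 0 := fun p hp => by
    rw [hξ, AdjoinRoot.aeval_eq, AdjoinRoot.mk_eq_zero] at hp
    obtain ⟨G, rfl⟩ := hp
    rw [map_mul, hkill, zero_mul]
  have hξr : ξ ^ r = 1 := by
    have h : AdjoinRoot.mk P₀ (X ^ r - 1) = 0 := AdjoinRoot.mk_eq_zero.2 (dvd_of_kills hh₀ hP₀ hA hPA)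
    rw [map_sub, map_pow, AdjoinRoot.mk_X, map_one, sub_eq_zero] at h
    exact h
  have hξ1 : ξ ≠ 1 := fun e => hv (hfix₀ v trivial (by
    have h := LinearMap.congr_fun (hdvd (X - 1) (by rw [map_sub, aeval_X, map_one, e, sub_self])) v
    simpa [sub_eq_zero] using h))
  have hord : orderOf ξ = r := orderOf_eq_prime hξr hξ1
  have hfin : IsOfFinOrder ξ := isOfFinOrder_iff_pow_eq_one.2 ⟨r, S.prime.pos, hξr⟩
  let u : (ZMod r)ˣ := Units.mk0 _ S.q_ne
  have hu : orderOf u = i := by rw [S.ord, ← orderOf_units]; rfl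
  let H := Subgroup.zpowers u
  have hcard : Nat.card ((ZMod r)ˣ ⧸ H) = (r - 1) / i := by
    have h := Subgroup.card_eq_card_quotient_mul_card_subgroup H
    rw [Nat.card_zpowers, hu, Nat.card_eq_fintype_card (α := (ZMod r)ˣ), ZMod.card_units] at h
    rw [h, Nat.mul_div_cancel _ S.i_pos]
  haveI : Fintype ((ZMod r)ˣ ⧸ H) := Fintype.ofFinite _
  let e : Fin ((r - 1) / i) ≃ (ZMod r)ˣ ⧸ H := (Fintype.equivFinOfCardEq
    (by rw [← hcard, Nat.card_eq_fintype_card])).symm
  let aa : Fin ((r - 1) / i) → ℕ := fun j => ((e j).out : ZMod r).val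
  have haa : ∀ j, (aa j : ZMod r) = ((e j).out : ZMod r) := fun j => ZMod.natCast_zmod_val _
  refine ⟨fun j => minpoly F (ξ ^ aa j), fun j j' hjj => ?_,
    fun j => ⟨minpoly.monic (Algebra.IsIntegral.isIntegral _),
      minpoly.irreducible (Algebra.IsIntegral.isIntegral _)⟩, ?_⟩
  · -- equal polynomials: one root is a Frobenius image of the other
    have hjj' : minpoly F (ξ ^ aa j) = minpoly F (ξ ^ aa j') := hjj
    set m := minpoly F (ξ ^ aa j) with hm
    set x := ξ ^ aa j with hx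
    have hm0 : m ≠ 0 := minpoly.ne_zero (Algebra.IsIntegral.isIntegral x)
    have hroots : ∀ k : ℕ, aeval (x ^ Fintype.card F ^ k) m = 0 := by
      intro k
      induction k with
      | zero => rw [pow_zero, pow_one, hm, minpoly.aeval]
      | succ k ih =>
        rw [pow_succ, pow_mul, ← expand_aeval, FiniteField.expand_card, map_pow, ih,
          zero_pow Fintype.card_ne_zero]
    let s : Finset (AdjoinRoot P₀) := (Finset.range i).image fun k => x ^ Fintype.card F ^ k
    have hsinj : Set.InjOn (fun k => x ^ Fintype.card F ^ k) (Finset.range i) := by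
      intro k hk l hl hkl
      simp only [hx, ← pow_mul] at hkl
      rw [hfin.pow_eq_pow_iff_modEq, hord, ← ZMod.natCast_eq_natCast_iff] at hkl
      push_cast at hkl
      rw [haa] at hkl
      have h := mul_left_cancel₀ (Units.ne_zero _) hkl
      simp only [Finset.coe_range, Set.mem_Iio] at hk hl
      rw [S.ord] at hk hl
      exact pow_injOn_Iio_orderOf hk hl h
    have hs : s = (m.map (algebraMap F (AdjoinRoot P₀))).roots.toFinset := by
      refine Finset.eq_of_subset_of_card_le (fun y hy => ?_) ?_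
      · obtain ⟨k, -, rfl⟩ := Finset.mem_image.1 hy
        rw [Multiset.mem_toFinset, mem_roots (Polynomial.map_ne_zero hm0), IsRoot.def, eval_map, ← aeval_def]
        exact hroots k
      · rw [Finset.card_image_of_injOn hsinj, Finset.card_range]
        refine (Multiset.toFinset_card_le _).trans ((card_roots' _).trans (natDegree_map_le.trans ?_))
        exact hK ▸ minpoly.natDegree_le x
    have hmem : ξ ^ aa j' ∈ s := by
      rw [hs, Multiset.mem_toFinset, mem_roots (Polynomial.map_ne_zero hm0), IsRoot.def, eval_map, ← aeval_def,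
        hjj', minpoly.aeval]
    obtain ⟨k, -, hk⟩ := Finset.mem_image.1 hmem
    rw [hx, ← pow_mul, hfin.pow_eq_pow_iff_modEq, hord, ← ZMod.natCast_eq_natCast_iff] at hk
    push_cast at hk
    rw [haa, haa] at hk
    have hk' : (e j).out * u ^ k = (e j').out := Units.ext (by simpa [u] using hk)
    refine e.injective ?_
    rw [← (e j).out_eq', ← (e j').out_eq', QuotientGroup.eq, ← hk', inv_mul_cancel_left]
    exact Subgroup.npow_mem_zpowers u k
  · intro V _ _ _ _ Q B hB hBs hBd j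
    obtain ⟨iso⟩ := Sig.isometric hQ₀ hB hs₀ hBs (by rw [hd₀, hBd])
    set h := h₀ ^ aa j with hh
    have hhr : h ^ r = 1 := by rw [hh, ← pow_mul, mul_comm, pow_mul, hh₀, one_pow]
    have hk : aeval (toEnd Q₀ h) (minpoly F (ξ ^ aa j)) = 0 := by
      have e1 : aeval ξ ((minpoly F (ξ ^ aa j)).comp (X ^ aa j)) = 0 := by
        rw [aeval_comp, map_pow, aeval_X, minpoly.aeval]
      have e2 := hdvd _ e1
      rwa [aeval_comp, map_pow, aeval_X, ← map_pow] at e2
    have hfix : ∀ x, h.1 x = x → x = 0 := by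
      intro x hx
      obtain ⟨d, hd⟩ : ∃ d : ℕ, (aa j * d) % r = 1 % r := by
        refine ⟨(((e j).out⁻¹ : (ZMod r)ˣ) : ZMod r).val, (ZMod.natCast_eq_natCast_iff' _ _ _).1 ?_⟩
        rw [Nat.cast_mul, haa, ZMod.natCast_zmod_val, Nat.cast_one, Units.mul_inv]
      refine hfix₀ x trivial ?_
      have e1 : ∀ n : ℕ, (h ^ n).1 x = x := fun n => by
        induction n with
        | zero => rfl
        | succ n ih => rw [pow_succ, UnitaryOrthogonal.coe_mul_apply, hx, ih]
      have e2 := e1 d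
      rwa [hh, ← pow_mul, pow_eq_pow_of_mod hh₀ hd, pow_one] at e2
    obtain ⟨k, h1, h2, h3, h4, h5⟩ := exists_block_glue S hB (UnitaryOrthogonal.orthCongr iso h)
      (by rw [← map_pow, hhr, map_one])
    refine ⟨k, h1, h2, h3, fun x hx hkx => ?_, fun x hx => ?_⟩
    · obtain ⟨y, hy⟩ := iso.toLinearEquiv.surjective ⟨x, hx⟩
      rw [h4 x hx, show (⟨x, hx⟩ : B) = iso y from hy.symm, UnitaryOrthogonal.orthCongr_apply] at hkx
      have hy0 : y = 0 := hfix y (iso.toLinearEquiv.injective (Subtype.ext (hkx.trans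
        (congrArg Subtype.val hy).symm)))
      rw [hy0, map_zero] at hy
      exact (congrArg Subtype.val hy).symm
    · obtain ⟨y, hy⟩ := iso.toLinearEquiv.surjective ⟨x, hx⟩
      rw [h5 _ x hx, ← hy, ← LinearEquiv.coe_coe, aeval_semiconj (f := toEnd _ (UnitaryOrthogonal.orthCongr iso h))
        (f' := toEnd Q₀ h) iso.toLinearEquiv.toLinearMap
        (fun z => (UnitaryOrthogonal.orthCongr_apply iso h z).symm), hk]
      simp

theorem coprime_inj {g : orth Q} {P P' : F[X]} (hP : Irreducible P) (hP' : Irreducible P') (hm : P.Monic)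
    (hm' : P'.Monic) (hne : P ≠ P') {x : V} (h : aeval (toEnd Q g) P x = 0)
    (h' : aeval (toEnd Q g) P' x = 0) : x = 0 := by
  obtain ⟨A, B, hAB⟩ := hP.coprime_iff_not_dvd.2 fun hd =>
    hne (eq_of_monic_of_associated hm hm' (hP.associated_of_dvd hP' hd))
  have e := congrArg (fun p => aeval (toEnd Q g) p x) hAB
  simp only [map_add, map_mul, LinearMap.add_apply, Module.End.mul_apply, h, h', map_zero, map_one,
    Module.End.one_apply, add_zero] at e
  exact e.symm

/-- Totally singular invariant subspaces of a moved space have dimension at most half, in steps of `i`. -/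
theorem ts_le_half (S : Setup F r i c b) {g : orth Q} (hg : g ^ r = 1) {M : Submodule F V} (hM : NDOn Q M)
    (hfix : ∀ x ∈ M, g.1 x = x → x = 0) {s : ℕ} (hd : Module.finrank F M = s * c) {W : Submodule F V}
    (hW : W ≤ M) (hWi : ∀ x ∈ W, g.1 x ∈ W) (hW0 : ∀ x ∈ W, Q x = 0) :
    Module.finrank F W ≤ (if Even i then s / 2 else s) * i := by
  obtain ⟨k, hk⟩ := i_dvd_finrank_of_fpf S hg W hWi (fun x hx => hfix x (hW hx))
  have h2 := two_mul_ts_le hM hW hW0
  rw [hd, hk] at h2
  rw [hk, mul_comm i k]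
  refine Nat.mul_le_mul_right i ?_
  have hi := S.i_pos
  rw [S.hc] at h2
  split_ifs at h2 ⊢
  · have : 2 * k ≤ s := Nat.le_of_mul_le_mul_right (by rw [mul_assoc, mul_comm k i]; exact h2) hi
    omega
  · exact Nat.le_of_mul_le_mul_right (show k * i ≤ s * i by nlinarith) hi

/-- Few invariant totally singular subspaces in the moved part. -/
theorem exists_worst (S : Setup F r i c b) (hQ : PolarND Q) {εV : ℤ} (hs : Sig Q εV) (s : ℕ)
    (hle : s * c ≤ Module.finrank F V) (hfull : s * c = Module.finrank F V → εV = b ^ s) :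
    ∃ g : orth Q, g ^ r = 1 ∧ Module.finrank F (mvS g) = s * c ∧
      ∀ W ≤ mvS g, (∀ x ∈ W, g.1 x ∈ W) → (∀ x ∈ W, Q x = 0) →
        Module.finrank F W ≤ (if Even i then (s + 1 - (r - 1) / i) / 2 else s) * i := by
  by_cases hi : Even i
  swap
  · obtain ⟨g, M, hg, -, hMn, hMd, hMi, hMf, hMp⟩ := exists_elem S s (ndOn_top hQ) (sigOn_top hs)
      (by rwa [finrank_top]) (by rwa [finrank_top])
    have hmv := mvS_eq hMn hMi hMf hMp
    refine ⟨g, hg, by rw [hmv, hMd], fun W hW hWi hW0 => ?_⟩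
    have h := ts_le_half S hg hMn hMf hMd (hmv ▸ hW) hWi hW0
    rwa [if_neg hi] at h ⊢
  rw [if_pos hi]
  obtain ⟨P, hinj, hPirr, hblock⟩ := exists_classes.{u, v} S hi
  obtain ⟨t, ht⟩ : ∃ t, (r - 1) / i = t := ⟨_, rfl⟩
  rw [ht]
  have ht0 : 0 < t := by
    rw [← ht]
    refine Nat.div_pos (Nat.le_of_dvd ?_ S.i_dvd_pred) S.i_pos
    have := S.prime.two_le; omega
  set e := s + 1 - t with he
  let cls : ℕ → Fin ((r - 1) / i) := fun j =>
    if h : e ≤ j ∧ j - e + 1 < t then ⟨j - e, by omega⟩ else ⟨t - 1, by omega⟩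
  have hcls : ∀ j j', e ≤ j → j < s → j' < j → cls j' ≠ cls j := by
    intro j j' hj hjs hj' hEq
    simp only [cls] at hEq
    split_ifs at hEq <;> simp only [Fin.mk.injEq] at hEq <;> omega
  suffices H : ∀ (j : ℕ) (U : Submodule F V) (εU : ℤ), j ≤ s → NDOn Q U → SigOn Q U εU →
      j * c ≤ Module.finrank F U → (j * c = Module.finrank F U → εU = b ^ j) →
      ∃ (g : orth Q) (M : Submodule F V), g ^ r = 1 ∧ M ≤ U ∧ NDOn Q M ∧ Module.finrank F M = j * c ∧
        (∀ x ∈ M, g.1 x ∈ M) ∧ (∀ x ∈ M, g.1 x = x → x = 0) ∧ (∀ x ∈ perp Q M, g.1 x = x) ∧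
        (∀ a, (∀ k < j, cls k ≠ a) → ∀ x ∈ M, aeval (toEnd Q g) (P a) x = 0 → x = 0) ∧
        ∀ W ≤ M, (∀ x ∈ W, g.1 x ∈ W) → (∀ x ∈ W, Q x = 0) → Module.finrank F W ≤ min j e / 2 * i by
    obtain ⟨g, M, hg, -, hMn, hMd, hMi, hMf, hMp, -, hW⟩ := H s ⊤ εV le_rfl (ndOn_top hQ) (sigOn_top hs)
      (by rwa [finrank_top]) (by rwa [finrank_top])
    have hmv := mvS_eq hMn hMi hMf hMp
    refine ⟨g, hg, by rw [hmv, hMd], fun W hWle hWi hW0 => ?_⟩
    exact (hW W (hmv ▸ hWle) hWi hW0).trans (Nat.mul_le_mul_right i (Nat.div_le_div_right (min_le_right _ _)))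
  intro j
  induction j with
  | zero =>
    intro U εU _ _ _ _ _
    refine ⟨1, ⊥, one_pow r, bot_le, ndOn_bot, by rw [finrank_bot, zero_mul], fun x hx => hx,
      fun x hx _ => (Submodule.mem_bot F).1 hx, fun x _ => rfl,
      fun a _ x hx _ => (Submodule.mem_bot F).1 hx, fun W hW _ _ => ?_⟩
    rw [le_bot_iff.1 hW, finrank_bot]; exact Nat.zero_le _
  | succ j ih =>
    intro U εU hjs hU hs' hle' heq
    rw [Nat.succ_mul] at hle' heq
    obtain ⟨B, hBU, hBd, hBn, hBs⟩ := exists_sub (ε := b) (m := c) hU hs'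
      ⟨by omega, S.unit, fun h => absurd h S.c_pos.ne', fun h => by
        have hs0 : j = 0 := by
          rcases j with _ | j
          · rfl
          · rw [Nat.succ_mul] at hle'; have := S.c_pos; omega
        subst hs0
        rw [heq (by omega), pow_one], fun _ => S.c_even⟩
    obtain ⟨hn', hdim, hsig⟩ := hU.inf_perp hBn hBU
    have hs'' := hsig εU b hs' hBs
    rw [hBd] at hs'' hdim
    rw [sig_even_left S.c_even, mul_one] at hs''
    obtain ⟨g', M, hg', hMU, hMn, hMd, hMinv, hMfix, hMperp, hMinj, hMW⟩ := ih _ _ (by omega) hn' hs''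
      (by omega) (fun h => by rw [heq (by omega), pow_succ, mul_assoc, S.mul_self, mul_one])
    obtain ⟨gB, hgB, hBinv, hBperp, hBfix, hBkill⟩ := hblock hBn hBs hBd (cls j)
    have hMB : M ≤ perp Q B := hMU.trans inf_le_right
    have hBM : B ≤ perp Q M := fun x hx => mem_perp.2 fun y hy =>
      (polar_comm Q y x).trans (mem_perp.1 (hMB hy) x hx)
    have hg'B : ∀ x ∈ B, g'.1 x = x := fun x hx => hMperp x (hBM hx)
    have hg'p : ∀ w ∈ perp Q B, g'.1 w ∈ perp Q B :=
      fun w hw => perp_invariant (fun y hy => by rw [hg'B y hy]; exact hy) w hw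
    have hcomm : Commute gB g' := UnitaryOrthogonal.orth_ext fun x => by
      obtain ⟨a, ha, w, hw, rfl⟩ := Submodule.mem_sup.1
        (hBn.isCompl.sup_eq_top ▸ Submodule.mem_top : x ∈ B ⊔ perp Q B)
      simp only [UnitaryOrthogonal.coe_mul_apply, map_add, hg'B a ha, hg'B _ (hBinv a ha),
        hBperp w hw, hBperp _ (hg'p w hw)]
    obtain ⟨hdis, hsn, hsd, -⟩ := hBn.sup hMn hMB
    set g := gB * g' with hgdef
    have gonB : ∀ x ∈ B, g.1 x = gB.1 x := fun x hx => by
      rw [hgdef, UnitaryOrthogonal.coe_mul_apply, hg'B x hx]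
    have gonM : ∀ x ∈ M, g.1 x = g'.1 x := fun x hx => by
      rw [hgdef, UnitaryOrthogonal.coe_mul_apply, hBperp _ (hMB (hMinv x hx))]
    have aB : ∀ (p : F[X]) x, x ∈ B → aeval (toEnd Q g) p x = aeval (toEnd Q gB) p x := fun p x hx =>
      (aeval_semiconj (f := toEnd Q g) (f' := toEnd _ (restr gB B hBinv)) B.subtype
        (fun y => (gonB y y.2).symm) p ⟨x, hx⟩).trans
      (aeval_semiconj (f := toEnd Q gB) (f' := toEnd _ (restr gB B hBinv)) B.subtype
        (fun y => rfl) p ⟨x, hx⟩).symm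
    have aM : ∀ (p : F[X]) x, x ∈ M → aeval (toEnd Q g) p x = aeval (toEnd Q g') p x := fun p x hx =>
      (aeval_semiconj (f := toEnd Q g) (f' := toEnd _ (restr g' M hMinv)) M.subtype
        (fun y => (gonM y y.2).symm) p ⟨x, hx⟩).trans
      (aeval_semiconj (f := toEnd Q g') (f' := toEnd _ (restr g' M hMinv)) M.subtype
        (fun y => rfl) p ⟨x, hx⟩).symm
    have hgBi : ∀ x ∈ B, g.1 x ∈ B := fun x hx => by rw [gonB x hx]; exact hBinv x hx
    have hgMi : ∀ x ∈ M, g.1 x ∈ M := fun x hx => by rw [gonM x hx]; exact hMinv x hx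
    have hgsup : ∀ y ∈ B ⊔ M, g.1 y ∈ B ⊔ M := fun y hy => by
      obtain ⟨a, ha, x, hx, rfl⟩ := Submodule.mem_sup.1 hy
      rw [map_add]
      exact Submodule.add_mem_sup (hgBi a ha) (hgMi x hx)
    have hsplit : ∀ {a x : V}, a ∈ B → x ∈ M → ∀ {a' x' : V}, a' ∈ B → x' ∈ M → a + x = a' + x' →
        a = a' ∧ x = x' := by
      intro a x ha hx a' x' ha' hx' he
      have e1 : a - a' = x' - x := by linear_combination (norm := module) he
      have e2 := Submodule.disjoint_def.1 hdis _ (B.sub_mem ha ha') (e1 ▸ M.sub_mem hx' hx)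
      exact ⟨sub_eq_zero.1 e2, (sub_eq_zero.1 (e1 ▸ e2)).symm⟩
    have hgfix : ∀ y ∈ B ⊔ M, g.1 y = y → y = 0 := fun y hy e => by
      obtain ⟨a, ha, x, hx, rfl⟩ := Submodule.mem_sup.1 hy
      rw [map_add] at e
      obtain ⟨e1, e2⟩ := hsplit (hgBi a ha) (hgMi x hx) ha hx e
      rw [hBfix a ha ((gonB a ha).symm.trans e1), hMfix x hx ((gonM x hx).symm.trans e2), add_zero]
    have hgr : g ^ r = 1 := by rw [hgdef, hcomm.mul_pow, hgB, hg', one_mul]
    have hsd' : Module.finrank F ↥(B ⊔ M) = (j + 1) * c := by rw [hsd, hBd, hMd]; ring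
    refine ⟨g, B ⊔ M, hgr, sup_le hBU (hMU.trans inf_le_left), hsn, hsd', hgsup, hgfix, fun x hx => ?_,
      fun a hne y hy hy0 => ?_, fun W hW hWi hW0 => ?_⟩
    · rw [hgdef, UnitaryOrthogonal.coe_mul_apply, hMperp x fun u hu => hx u (Submodule.mem_sup_right hu),
        hBperp x fun u hu => hx u (Submodule.mem_sup_left hu)]
    · obtain ⟨β, hβ, x, hx, rfl⟩ := Submodule.mem_sup.1 hy
      rw [map_add] at hy0
      obtain ⟨e1, e2⟩ := hsplit (aeval_mem (f := toEnd Q g) hgBi _ β hβ)
        (aeval_mem (f := toEnd Q g) hgMi _ x hx) (zero_mem B) (zero_mem M) (by rw [hy0, add_zero])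
      rw [aM _ x hx] at e2
      rw [hMinj a (fun k hk => hne k (by omega)) x hx e2, add_zero]
      refine coprime_inj (hPirr a).2 (hPirr (cls j)).2 (hPirr a).1 (hPirr (cls j)).1
        (fun h => hne j (by omega) (hinj h).symm) e1 ?_
      rw [aB _ β hβ]
      exact hBkill β hβ
    · by_cases hje : j + 1 ≤ e
      · have h := ts_le_half S hgr hsn hgfix hsd' hW hWi hW0
        rwa [if_pos hi, ← min_eq_left hje] at h
      · rw [show min (j + 1) e = min j e by omega]
        have hmap : ∀ y ∈ W, aeval (toEnd Q g) (P (cls j)) y ∈ W ⊓ M := fun y hy => by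
          obtain ⟨β, hβ, x, hx, rfl⟩ := Submodule.mem_sup.1 (hW hy)
          refine ⟨aeval_mem (f := toEnd Q g) hWi _ _ hy, ?_⟩
          rw [map_add, aB _ β hβ, hBkill β hβ, zero_add]
          exact aeval_mem (f := toEnd Q g) hgMi _ x hx
        have hbot : W ⊓ B = ⊥ := by
          have h := ts_le_half S hgr hBn (fun x hx => hgfix x (Submodule.mem_sup_left hx)) (s := 1)
            (by rw [hBd, one_mul]) (inf_le_right : W ⊓ B ≤ B)
            (fun x hx => ⟨hWi x hx.1, hgBi x hx.2⟩) (fun x hx => hW0 x hx.1)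
          rw [if_pos hi, show 1 / 2 = 0 from rfl, zero_mul, Nat.le_zero] at h
          exact Submodule.finrank_eq_zero.1 h
        let T : W →ₗ[F] ↥(W ⊓ M) := ((aeval (toEnd Q g) (P (cls j))).comp W.subtype).codRestrict _
          fun y => hmap y y.2
        have hT : Function.Injective T := (injective_iff_map_eq_zero T).2 fun y hy => by
          have h0 : aeval (toEnd Q g) (P (cls j)) (y : V) = 0 := congrArg Subtype.val hy
          obtain ⟨β, hβ, x, hx, hyx⟩ := Submodule.mem_sup.1 (hW y.2)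
          rw [← hyx, map_add, aB _ β hβ, hBkill β hβ, zero_add, aM _ x hx] at h0
          have hx0 : x = 0 := hMinj (cls j) (fun k hk => hcls j k (by omega) (by omega) hk) x hx h0
          rw [hx0, add_zero] at hyx
          exact Subtype.ext ((Submodule.eq_bot_iff _).1 hbot (y : V) ⟨y.2, hyx ▸ hβ⟩)
        have hfr := LinearMap.finrank_le_finrank_of_injective hT
        have hWM : W ⊓ M = W := Submodule.eq_of_le_of_finrank_le inf_le_left hfr
        exact hMW W (inf_eq_left.1 hWM) (fun x hx => by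
          rw [← gonM x (inf_eq_left.1 hWM hx)]; exact hWi x hx) hW0

end Cfsg.Agent.OrthFix.TS
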