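import Cfsg.Agent.OrthFix.Unipotent
import Cfsg.Agent.OrthFix.Element

/-!
Totally singular subspaces: existence, and the number of them modulo a prime.
-/

set_option autoImplicit false
set_option linter.unusedSectionVars false
set_option linter.style.haveILetI false

namespace Cfsg.Agent.OrthFix.TS

open Finset QuadraticMap
open Cfsg.Agent.UnitaryOrthogonal (PolarND orth polar_self_eq form_add form_smul level)

universe u v w

variable {F : Type u} [Field F] [Fintype F]
variable {V : Type v} [AddCommGroup V] [Module F V] [FiniteDimensional F V] [Finite V]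
  {Q : QuadraticForm F V}

/-- A space of dimension `n` and sign `ε` has totally singular subspaces of dimension `m`. -/
def TSok (n : ℕ) (ε : ℤ) (m : ℕ) : Prop := 2 * m < n ∨ (2 * m = n ∧ ε = 1)

theorem TSok.pred {n m : ℕ} {ε : ℤ} (h : TSok n ε (m + 1)) : TSok (n - 2) ε m := by
  unfold TSok at *; omega

variable {U : Submodule F V} {ε : ℤ}

theorem exists_ts (hU : NDOn Q U) (hs : SigOn Q U ε) {m : ℕ} (h : TSok (Module.finrank F U) ε m) :
    ∃ T : Submodule F V, T ≤ U ∧ (∀ x ∈ T, Q x = 0) ∧ Module.finrank F T = m := by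
  obtain ⟨W, hWU, hWd, hW, hWs⟩ := exists_sub (ε := 1) (m := 2 * m) hU hs
    ⟨by unfold TSok at h; omega, Or.inl rfl, fun _ => rfl, fun e => by
      rcases h with h | h
      · omega
      · exact h.2.symm, fun _ => even_two_mul m⟩
  obtain ⟨T, hT, hT0, hTd⟩ := (sigOn_one_iff hW hWd).1 hWs
  exact ⟨T, hT.trans hWU, hT0, hTd⟩

theorem tsok_of_ts (hU : NDOn Q U) (hs : SigOn Q U ε) {T : Submodule F V} (hT : T ≤ U)
    (h0 : ∀ x ∈ T, Q x = 0) : TSok (Module.finrank F U) ε (Module.finrank F T) := by
  rcases lt_or_eq_of_le (two_mul_ts_le hU hT h0) with h | h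
  · exact Or.inl h
  · exact Or.inr ⟨h, hs.unique (sigOn_one_of_ts hU h.symm hT h0 le_rfl)⟩

variable (Q) in
/-- The number of totally singular `m`-subspaces. -/
noncomputable def tsCard (m : ℕ) : ℕ :=
  Nat.card {W : Submodule F V // Module.finrank F W = m ∧ ∀ w ∈ W, Q w = 0}

theorem tsCard_zero : tsCard Q 0 = 1 := by
  refine Nat.card_eq_one_iff_unique.2 ⟨⟨fun a b => Subtype.ext ?_⟩, ⟨⟨⊥, finrank_bot F V, fun w hw => by
    rw [(Submodule.mem_bot F).1 hw, QuadraticMap.map_zero]⟩⟩⟩
  rw [Submodule.finrank_eq_zero.1 a.2.1, Submodule.finrank_eq_zero.1 b.2.1]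

theorem tsCard_congr {V' : Type w} [AddCommGroup V'] [Module F V'] {Q' : QuadraticForm F V'}
    (e : Q.IsometryEquiv Q') (m : ℕ) : tsCard Q m = tsCard Q' m := by
  refine Nat.card_congr (Equiv.subtypeEquiv (Submodule.orderIsoMapComap e.toLinearEquiv).toEquiv
    fun W => ?_)
  show _ ↔ Module.finrank F ↥(W.map e.toLinearEquiv.toLinearMap) = m ∧
    ∀ w ∈ W.map e.toLinearEquiv.toLinearMap, Q' w = 0
  rw [LinearEquiv.finrank_map_eq]
  refine and_congr_right fun _ => ⟨?_, fun h w hw => ?_⟩
  · rintro h _ ⟨w, hw, rfl⟩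
    show Q' (e w) = 0
    rw [e.map_app]
    exact h w hw
  · rw [← e.map_app]
    exact h _ ⟨w, hw, rfl⟩

/-- Through a singular vector there is a hyperbolic plane. -/
theorem exists_hyp_plane (hQ : PolarND Q) {u : V} (hu0 : u ≠ 0) (hu : Q u = 0) :
    ∃ P : Submodule F V, u ∈ P ∧ NDOn Q P ∧ Module.finrank F P = 2 ∧ SigOn Q P 1 ∧
      ∀ x ∈ P, polar Q u x = 0 → x ∈ Submodule.span F {u} := by
  obtain ⟨v, hv⟩ : ∃ v, polar Q u v ≠ 0 := by
    by_contra h
    push Not at h
    exact hu0 (hQ u h)
  have huu : polar Q u u = 0 := by rw [polar_self_eq, hu, mul_zero]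
  have hli : LinearIndependent F ![u, v] := LinearIndependent.pair_iff.2 fun a b hab => by
    have e := congrArg (polar Q u) hab
    rw [polar_add_right, polar_smul_right, polar_smul_right, huu, smul_zero, zero_add,
      polar_zero_right, smul_eq_mul] at e
    have hb : b = 0 := (mul_eq_zero.1 e).resolve_right hv
    rw [hb, zero_smul, add_zero] at hab
    exact ⟨(smul_eq_zero.1 hab).resolve_right hu0, hb⟩
  have hr : Set.range ![u, v] = {u, v} := by simp [Matrix.range_cons, Set.pair_comm]
  have hd : Module.finrank F (Submodule.span F ({u, v} : Set V)) = 2 := by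
    rw [← hr, finrank_span_eq_card hli, Fintype.card_fin]
  have huP : u ∈ Submodule.span F ({u, v} : Set V) := Submodule.subset_span (by simp)
  have hker : ∀ x ∈ Submodule.span F ({u, v} : Set V), polar Q u x = 0 → x ∈ Submodule.span F {u} := by
    intro x hx h
    obtain ⟨a, b, rfl⟩ := Submodule.mem_span_pair.1 hx
    rw [polar_add_right, polar_smul_right, polar_smul_right, huu, smul_zero, zero_add, smul_eq_mul] at h
    rw [(mul_eq_zero.1 h).resolve_right hv, zero_smul, add_zero]
    exact Submodule.smul_mem _ a (Submodule.mem_span_singleton_self u)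
  have hn : NDOn Q (Submodule.span F ({u, v} : Set V)) := ndOn_iff.2 fun x hx hxy => by
    obtain ⟨a, rfl⟩ := Submodule.mem_span_singleton.1
      (hker x hx ((polar_comm Q u x).trans (hxy u huP)))
    have e := hxy v (Submodule.subset_span (by simp))
    rw [polar_smul_left, smul_eq_mul] at e
    rw [(mul_eq_zero.1 e).resolve_right hv, zero_smul]
  refine ⟨_, huP, hn, hd, sigOn_one_of_ts hn (h := 1) hd (T := Submodule.span F {u})
    ((Submodule.span_singleton_le_iff_mem _ _).2 huP) (fun x hx => ?_)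
    (finrank_span_singleton hu0).ge, hker⟩
  obtain ⟨a, rfl⟩ := Submodule.mem_span_singleton.1 hx
  rw [form_smul, hu, mul_zero]

/-- Totally singular subspaces through a singular vector. -/
theorem card_through {u : V} (hu0 : u ≠ 0) (hu : Q u = 0) {P : Submodule F V} (huP : u ∈ P)
    (hP : NDOn Q P) (hker : ∀ x ∈ P, polar Q u x = 0 → x ∈ Submodule.span F {u}) (m : ℕ) :
    Nat.card {W : Submodule F V // (Module.finrank F W = m + 1 ∧ ∀ w ∈ W, Q w = 0) ∧ u ∈ W} =
      tsCard (Q.comp (perp Q P).subtype) m := by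
  have hsu : Submodule.span F {u} ≤ P := (Submodule.span_singleton_le_iff_mem _ _).2 huP
  have hdec : ∀ (W : Submodule F V), (∀ w ∈ W, Q w = 0) → u ∈ W →
      (W ⊓ perp Q P) ⊔ Submodule.span F {u} = W := by
    intro W hW huW
    refine le_antisymm (sup_le inf_le_left ((Submodule.span_singleton_le_iff_mem _ _).2 huW)) fun x hx => ?_
    obtain ⟨a, ha, y, hy, rfl⟩ := Submodule.mem_sup.1
      (hP.isCompl.sup_eq_top ▸ Submodule.mem_top : x ∈ P ⊔ perp Q P)
    have e : polar Q u (a + y) = 0 := polar_eq_zero_of_ts hW huW hx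
    rw [polar_add_right, mem_perp.1 hy u huP, add_zero] at e
    have hau := hker a ha e
    have haW : a ∈ W := (Submodule.span_singleton_le_iff_mem _ _).2 huW hau
    rw [add_comm]
    exact Submodule.add_mem_sup ⟨by simpa using W.sub_mem hx haW, hy⟩ hau
  have hfin : ∀ W' : Submodule F V, W' ≤ perp Q P →
      Module.finrank F ↥(W' ⊔ Submodule.span F {u}) = Module.finrank F W' + 1 := fun W' h => by
    rw [finrank_sup_of_disjoint (hP.disjoint.symm.mono h hsu), finrank_span_singleton hu0]
  refine Nat.card_congr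
    { toFun := fun W => ⟨(W.1 ⊓ perp Q P).comap (perp Q P).subtype, ?_, fun w hw => W.2.1.2 w hw.1⟩
      invFun := fun W => ⟨W.1.map (perp Q P).subtype ⊔ Submodule.span F {u}, ⟨?_, ?_⟩,
        Submodule.mem_sup_right (Submodule.mem_span_singleton_self u)⟩
      left_inv := fun W => Subtype.ext ?_
      right_inv := fun W => Subtype.ext ?_ }
  · rw [(Submodule.comapSubtypeEquivOfLe inf_le_right).finrank_eq]
    have e := hfin (W.1 ⊓ perp Q P) inf_le_right
    rw [hdec W.1 W.2.1.2 W.2.2, W.2.1.1] at e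
    omega
  · rw [hfin _ (Submodule.map_subtype_le _ _), Submodule.finrank_map_subtype_eq, W.2.1]
  · intro x hx
    obtain ⟨_, ⟨y, hy, rfl⟩, z, hz, rfl⟩ := Submodule.mem_sup.1 hx
    obtain ⟨a, rfl⟩ := Submodule.mem_span_singleton.1 hz
    rw [form_add, show Q ((perp Q P).subtype y) = 0 from W.2.2 y hy, form_smul, hu, polar_comm,
      polar_smul_left, show polar Q u ((perp Q P).subtype y) = 0 from mem_perp.1 y.2 u huP, smul_zero]
    ring
  · show ((W.1 ⊓ perp Q P).comap (perp Q P).subtype).map (perp Q P).subtype ⊔ Submodule.span F {u} = W.1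
    rw [Submodule.map_comap_subtype, inf_left_comm, inf_idem, hdec W.1 W.2.1.2 W.2.2]
  · ext y
    constructor
    · rintro ⟨h, -⟩
      obtain ⟨_, ⟨z, hz, rfl⟩, s, hs, he⟩ := Submodule.mem_sup.1 h
      have h0 : s = 0 := Submodule.disjoint_def.1 hP.disjoint s (hsu hs) (by
        have : s = (y : V) - z := eq_sub_of_add_eq' he
        rw [this]
        exact (perp Q P).sub_mem y.2 z.2)
      rw [h0, add_zero] at he
      rwa [← Subtype.coe_injective he]
    · intro h
      exact ⟨Submodule.mem_sup_left ⟨y, h, rfl⟩, y.2⟩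

theorem card_nonzero_mem (W : Submodule F V) :
    Nat.card {u : V // u ∈ W ∧ u ≠ 0} + 1 = Fintype.card F ^ Module.finrank F W := by
  classical
  haveI := Fintype.ofFinite W
  let e : {u : V // u ∈ W ∧ u ≠ 0} ≃ {u : W // ¬ u = 0} :=
    { toFun := fun u => ⟨⟨u.1, u.2.1⟩, fun h => u.2.2 (congrArg Subtype.val h)⟩
      invFun := fun u => ⟨u.1, u.1.2, fun h => u.2 (Subtype.ext h)⟩
      left_inv := fun _ => rfl
      right_inv := fun _ => rfl }
  have h1 : Nat.card W = Fintype.card F ^ Module.finrank F W := by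
    rw [Module.natCard_eq_pow_finrank (K := F), Nat.card_eq_fintype_card]
  rw [Nat.card_congr e, ← h1, Nat.card_eq_fintype_card, Nat.card_eq_fintype_card,
    Fintype.card_subtype_compl, Fintype.card_subtype_eq]
  have := Fintype.card_pos (α := W)
  omega

/-- Double counting of the pairs (subspace, nonzero vector in it). -/
theorem step (hQ : PolarND Q) (hs : Sig Q ε) (m M : ℕ)
    (hM : ∀ P : Submodule F V, NDOn Q P → Module.finrank F P = 2 → SigOn Q P 1 →
      tsCard (Q.comp (perp Q P).subtype) m = M) :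
    (tsCard Q (m + 1) : ℤ) * ((Fintype.card F : ℤ) ^ (m + 1) - 1) = ((level Q 0 : ℤ) - 1) * M := by
  classical
  let A := {W : Submodule F V // Module.finrank F W = m + 1 ∧ ∀ w ∈ W, Q w = 0}
  let B := {u : V // Q u = 0 ∧ u ≠ 0}
  haveI : Fintype A := Fintype.ofFinite _
  haveI : Fintype B := Fintype.ofFinite _
  have hA : ∀ W : A, Nat.card {u : B // u.1 ∈ W.1} + 1 = Fintype.card F ^ (m + 1) := fun W => by
    have hc := card_nonzero_mem W.1
    rw [W.2.1] at hc
    rw [← hc]
    congr 1
    exact Nat.card_congr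
      { toFun := fun u => ⟨u.1.1, u.2, u.1.2.2⟩
        invFun := fun u => ⟨⟨u.1, W.2.2 _ u.2.1, u.2.2⟩, u.2.1⟩
        left_inv := fun _ => rfl
        right_inv := fun _ => rfl }
  have hB : ∀ u : B, Nat.card {W : A // u.1 ∈ W.1} = M := fun u => by
    obtain ⟨P, h1, h2, h3, h4, h5⟩ := exists_hyp_plane hQ u.2.2 u.2.1
    rw [← hM P h2 h3 h4, ← card_through u.2.2 u.2.1 h1 h2 h5 m]
    exact Nat.card_congr
      { toFun := fun W => ⟨W.1.1, W.1.2, W.2⟩
        invFun := fun W => ⟨⟨W.1, W.2.1⟩, W.2.2⟩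
        left_inv := fun _ => rfl
        right_inv := fun _ => rfl }
  have h2 : Nat.card (Σ W : A, {u : B // u.1 ∈ W.1}) = Nat.card (Σ u : B, {W : A // u.1 ∈ W.1}) :=
    Nat.card_congr
      { toFun := fun s => ⟨s.2.1, s.1, s.2.2⟩
        invFun := fun s => ⟨s.2.1, s.1, s.2.2⟩
        left_inv := fun _ => rfl
        right_inv := fun _ => rfl }
  rw [Nat.card_sigma, Nat.card_sigma, Finset.sum_congr rfl fun u _ => hB u, Finset.sum_const,
    Finset.card_univ, smul_eq_mul] at h2
  have hq : 1 ≤ Fintype.card F ^ (m + 1) := Nat.one_le_pow _ _ Fintype.card_pos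
  rw [Finset.sum_congr rfl fun W _ => (show Nat.card {u : B // u.1 ∈ W.1} = Fintype.card F ^ (m + 1) - 1 by
    have := hA W; omega), Finset.sum_const, Finset.card_univ, smul_eq_mul] at h2
  have hBc : Fintype.card B + 1 = level Q 0 := by
    haveI := Fintype.ofFinite {u : V // Q u = 0}
    let e : B ≃ {u : {u : V // Q u = 0} // ¬ u = ⟨0, QuadraticMap.map_zero Q⟩} :=
      { toFun := fun u => ⟨⟨u.1, u.2.1⟩, fun h => u.2.2 (congrArg Subtype.val h)⟩
        invFun := fun u => ⟨u.1.1, u.1.2, fun h => u.2 (Subtype.ext h)⟩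
        left_inv := fun _ => rfl
        right_inv := fun _ => rfl }
    rw [Fintype.card_congr e, Fintype.card_subtype_compl, Fintype.card_subtype_eq, level,
      Nat.card_eq_fintype_card]
    have : 0 < Fintype.card {u : V // Q u = 0} := Fintype.card_pos_iff.2 ⟨⟨0, QuadraticMap.map_zero Q⟩⟩
    omega
  rw [show tsCard Q (m + 1) = Fintype.card A from Nat.card_eq_fintype_card, ← hBc]
  have h3 := congrArg (Nat.cast : ℕ → ℤ) h2
  push_cast [Nat.cast_sub hq] at h3 ⊢
  linear_combination h3

theorem perp_data (hQ : PolarND Q) (hs : Sig Q ε) {P : Submodule F V} (hP : NDOn Q P)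
    (hd : Module.finrank F P = 2) (hPs : SigOn Q P 1) :
    NDOn Q (perp Q P) ∧ Module.finrank F (perp Q P) + 2 = Module.finrank F V ∧ SigOn Q (perp Q P) ε := by
  obtain ⟨h1, h2, h3⟩ := (ndOn_top hQ).inf_perp hP le_top
  have h4 := h3 _ _ (sigOn_top hs) hPs
  rw [hd, sig_even_left even_two, mul_one, mul_one] at h4
  rw [top_inf_eq] at h1 h2 h4
  rw [finrank_top, hd] at h2
  exact ⟨h1, by omega, h4⟩

theorem level_zero_eq (hs : Sig Q ε) :
    (Fintype.card F : ℤ) * level Q 0 = (Fintype.card F : ℤ) ^ Module.finrank F V +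
      (if Even (Module.finrank F V) then
        ε * ((Fintype.card F : ℤ) - 1) * (Fintype.card F : ℤ) ^ (Module.finrank F V / 2) else 0) := by
  rw [hs.count]
  split_ifs with h
  · rw [kern_even h, nu, if_pos rfl]; ring
  · rw [kern_odd (Nat.not_even_iff_odd.1 h), chi_zero]; ring

/-- The number is prime to the characteristic. -/
theorem card_mod_char {p : ℕ} [Fact p.Prime] [CharP F p] :
    ∀ (m : ℕ) {V : Type v} [AddCommGroup V] [Module F V] [FiniteDimensional F V] [Finite V]
      {Q : QuadraticForm F V} {ε : ℤ}, PolarND Q → Sig Q ε → 2 * m < Module.finrank F V →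
      (tsCard Q m : ZMod p) = 1 := by
  have hq : (Fintype.card F : ZMod p) = 0 := by
    obtain ⟨n, -, hn⟩ := FiniteField.card F p
    rw [hn, Nat.cast_pow, ZMod.natCast_self, zero_pow n.ne_zero]
  intro m
  induction m with
  | zero => intros; rw [tsCard_zero, Nat.cast_one]
  | succ m ih =>
    intro V _ _ _ _ Q ε hQ hs hlt
    have hlev : (level Q 0 : ZMod p) = 0 := by
      obtain ⟨k, hk⟩ : ∃ k : ℕ, Module.finrank F V = k + 3 := ⟨Module.finrank F V - 3, by omega⟩
      have e := level_zero_eq hs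
      have hq0 : (Fintype.card F : ℤ) ≠ 0 := by exact_mod_cast Fintype.card_ne_zero
      obtain ⟨j, hj⟩ : ∃ j : ℤ, (level Q 0 : ℤ) = (Fintype.card F : ℤ) * j := by
        refine ⟨(Fintype.card F : ℤ) ^ (k + 1) + if Even (Module.finrank F V) then
          ε * ((Fintype.card F : ℤ) - 1) * (Fintype.card F : ℤ) ^ (Module.finrank F V / 2 - 2) else 0,
          mul_left_cancel₀ hq0 (e.trans ?_)⟩
        split_ifs with hev
        · obtain ⟨t, ht⟩ := hev
          rw [show Module.finrank F V / 2 = t - 2 + 2 by omega, show t - 2 + 2 - 2 = t - 2 by omega, hk,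
            pow_add _ (t - 2) 2, pow_add _ k 3, pow_add _ k 1]
          ring
        · rw [hk, pow_add _ k 3, pow_add _ k 1]; ring
      have := congrArg (Int.cast : ℤ → ZMod p) hj
      push_cast at this
      rw [this, hq, zero_mul]
    rcases isEmpty_or_nonempty {P : Submodule F V // NDOn Q P ∧ Module.finrank F P = 2 ∧ SigOn Q P 1}
      with hemp | ⟨⟨P₀, h1, h2, h3⟩⟩
    · exfalso
      obtain ⟨T, -, hT, hTd⟩ := exists_ts (ndOn_top hQ) (sigOn_top hs) (m := 1)
        (Or.inl (by rw [finrank_top]; omega))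
      have hne : T ≠ ⊥ := fun e => by rw [e, finrank_bot] at hTd; omega
      obtain ⟨u, hu, hu0⟩ := (Submodule.ne_bot_iff T).1 hne
      obtain ⟨P, -, h⟩ := exists_hyp_plane hQ hu0 (hT u hu)
      exact hemp.elim ⟨P, h.1, h.2.1, h.2.2.1⟩
    obtain ⟨hn₀, hd₀, hs₀⟩ := perp_data hQ hs h1 h2 h3
    have hM : (tsCard (Q.comp (perp Q P₀).subtype) m : ZMod p) = 1 := ih hn₀ hs₀ (by omega)
    have e := step hQ hs m (tsCard (Q.comp (perp Q P₀).subtype) m) fun P hP hd hPs => by
      obtain ⟨hn', hd', hs'⟩ := perp_data hQ hs hP hd hPs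
      obtain ⟨i⟩ := Sig.isometric hn' hn₀ hs' hs₀ (by omega)
      exact tsCard_congr i m
    have e' := congrArg (Int.cast : ℤ → ZMod p) e
    push_cast at e'
    rw [hM, hlev, hq, zero_pow (Nat.succ_ne_zero m)] at e'
    linear_combination -e'

variable {r i c : ℕ} {b : ℤ}

theorem ne_two (S : Setup F r i c b) : (2 : ZMod r) ≠ 0 := fun h0 => by
  have := Nat.le_of_dvd two_pos ((ZMod.natCast_eq_zero_iff 2 r).1 (by exact_mod_cast h0))
  have := S.odd
  omega

theorem q_pow_ne (S : Setup F r i c b) {e : ℕ} {δ : ℤ} (he : e < c / 2) (he0 : 0 < e)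
    (hδ : δ = 1 ∨ δ = -1) : (Fintype.card F : ZMod r) ^ e ≠ (δ : ZMod r) := by
  intro h
  have h2 : (Fintype.card F : ZMod r) ^ (2 * e) = 1 := by
    rw [pow_mul', h, pow_two, ← Int.cast_mul, mul_self_eq_one_iff.2 hδ, Int.cast_one]
  have hd := S.pow_eq_one_iff.1 h2
  have hc := S.hc
  split_ifs at hc with hev
  · have := Nat.le_of_dvd (by omega) hd
    omega
  · have := Nat.le_of_dvd he0 ((Nat.coprime_two_right.2 (Nat.not_even_iff_odd.1 hev)).dvd_of_dvd_mul_left hd)
    omega

/-- Small totally singular subspaces are not counted by a multiple of `r`. -/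
theorem card_mod_order (S : Setup F r i c b) :
    ∀ (m : ℕ) {V : Type v} [AddCommGroup V] [Module F V] [FiniteDimensional F V] [Finite V]
      {Q : QuadraticForm F V} {ε εC : ℤ} {T C : ℕ}, PolarND Q → Sig Q ε → m < i → C ≤ c →
      (C = c → εC = -b) → Module.finrank F V = T * c + C → ε = εC * b ^ T → TSok C εC m →
      (tsCard Q m : ZMod r) ≠ 0 := by
  haveI : Fact r.Prime := ⟨S.prime⟩
  intro m
  induction m with
  | zero => intros; rw [tsCard_zero, Nat.cast_one]; exact one_ne_zero
  | succ m ih =>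
    intro V _ _ _ _ Q ε εC T C hQ hs hmi hCc hfull hn hε hok
    have hq := S.q_ne
    have hεC : εC = 1 ∨ εC = -1 := by
      have h1 : εC * εC = ε * ε := by
        rw [hε, mul_mul_mul_comm, ← mul_pow, S.mul_self, one_pow, mul_one]
      rw [hs.mul_self] at h1
      exact mul_self_eq_one_iff.1 h1
    have hc2 : 2 * (c / 2) = c := by obtain ⟨e, he⟩ := S.c_even; omega
    have hTc : T * c = 2 * (T * (c / 2)) := by
      conv_lhs => rw [← hc2]
      ring
    have hqc := S.pow_half
    have hC2 : 2 ≤ C := by unfold TSok at hok; omega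
    have hstep : (tsCard Q (m + 1) : ZMod r) * ((Fintype.card F : ZMod r) ^ (m + 1) - 1) ≠ 0 →
        (tsCard Q (m + 1) : ZMod r) ≠ 0 := fun h => left_ne_zero_of_mul h
    refine hstep ?_
    obtain ⟨W, -, hW0, hWd⟩ := exists_ts (ndOn_top hQ) (sigOn_top hs) (m := 1) (by
      rw [finrank_top, hn]
      rcases Nat.eq_zero_or_pos T with rfl | hT
      · rw [pow_zero, mul_one] at hε
        subst hε
        unfold TSok at hok ⊢
        omega
      · refine Or.inl ?_
        have := Nat.le_mul_of_pos_left c hT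
        have := S.two_le_c
        omega)
    have hne : W ≠ ⊥ := fun e => by rw [e, finrank_bot] at hWd; omega
    obtain ⟨u, hu, hu0⟩ := (Submodule.ne_bot_iff W).1 hne
    obtain ⟨P₀, -, h1, h2, h3, -⟩ := exists_hyp_plane hQ hu0 (hW0 u hu)
    obtain ⟨hn₀, hd₀, hs₀⟩ := perp_data hQ hs h1 h2 h3
    have hM : (tsCard (Q.comp (perp Q P₀).subtype) m : ZMod r) ≠ 0 :=
      ih hn₀ hs₀ (by omega) (by omega) (fun h => by omega) (T := T) (C := C - 2) (by omega) hε hok.pred
    have e := step hQ hs m (tsCard (Q.comp (perp Q P₀).subtype) m) fun P hP hd hPs => by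
      obtain ⟨hn', hd', hs'⟩ := perp_data hQ hs hP hd hPs
      obtain ⟨j⟩ := Sig.isometric hn' hn₀ hs' hs₀ (by omega)
      exact tsCard_congr j m
    have e' := congrArg (Int.cast : ℤ → ZMod r) e
    push_cast at e'
    rw [e']
    refine mul_ne_zero (sub_ne_zero.2 fun hL => ?_) hM
    have hl := congrArg (Int.cast : ℤ → ZMod r) (level_zero_eq hs)
    push_cast at hl
    rw [hL, mul_one] at hl
    rcases Nat.even_or_odd C with ⟨g, hg⟩ | ⟨g, hg⟩
    · -- `q = q^n + ε (q - 1) q^(n/2)`
      have hev : Even (Module.finrank F V) := by rw [hn, hTc]; exact ⟨T * (c / 2) + g, by omega⟩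
      rw [if_pos hev, show Module.finrank F V / 2 = c / 2 * T + g by rw [hn, hTc, mul_comm T]; omega,
        show Module.finrank F V = c / 2 * T + c / 2 * T + g + g by rw [hn, hTc, mul_comm T]; omega] at hl
      simp only [pow_add, pow_mul, hqc] at hl
      rw [hε, Int.cast_mul, Int.cast_pow] at hl
      push_cast at hl
      have hbb : ((b : ZMod r) ^ T) * ((b : ZMod r) ^ T) = 1 := by
        rw [← mul_pow, ← Int.cast_mul, S.mul_self, Int.cast_one, one_pow]
      have hεε : (εC : ZMod r) * εC = 1 := by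
        rw [← Int.cast_mul, mul_self_eq_one_iff.2 hεC, Int.cast_one]
      obtain ⟨g', rfl⟩ : ∃ g', g = g' + 1 := ⟨g - 1, by omega⟩
      have key : (Fintype.card F : ZMod r) * (((Fintype.card F : ZMod r) ^ (g' + 1) - εC) *
          ((Fintype.card F : ZMod r) ^ g' + εC)) = 0 := by
        linear_combination (-((Fintype.card F : ZMod r) ^ (g' + 1)) ^ 2) * hbb -
          ((εC : ZMod r) * ((Fintype.card F : ZMod r) - 1) * (Fintype.card F : ZMod r) ^ (g' + 1)) * hbb -
          hl - (Fintype.card F : ZMod r) * hεε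
      rcases mul_eq_zero.1 key with h | h
      · exact hq h
      rcases mul_eq_zero.1 h with h | h
      · rcases lt_or_eq_of_le (show g' + 1 ≤ c / 2 by omega) with hlt | heq
        · exact q_pow_ne S hlt (by omega) hεC (sub_eq_zero.1 h)
        · rw [heq, hqc, hfull (by omega)] at h
          push_cast at h
          rw [sub_neg_eq_add, ← two_mul] at h
          rcases mul_eq_zero.1 h with h | h
          · exact ne_two S h
          · exact one_ne_zero (show (1 : ZMod r) = 0 by
              rw [← Int.cast_one, ← S.mul_self, Int.cast_mul, h, mul_zero])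
      · rcases Nat.eq_zero_or_pos g' with rfl | hg'
        · have : εC = 1 := by unfold TSok at hok; omega
          rw [this] at h
          push_cast at h
          rw [pow_zero] at h
          exact ne_two S (by linear_combination h)
        · refine q_pow_ne S (δ := -εC) (show g' < c / 2 by omega) hg' (by omega) ?_
          push_cast
          linear_combination h
    · rw [if_neg (by rw [hn, hTc, Nat.not_even_iff_odd]; exact ⟨T * (c / 2) + g, by omega⟩), add_zero,
        hn, hg, ← add_assoc, pow_succ] at hl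
      have h1 : (Fintype.card F : ZMod r) ^ (T * c + 2 * g) = 1 :=
        mul_right_cancel₀ hq (by rw [one_mul, ← hl])
      have h2 : (Fintype.card F : ZMod r) ^ (2 * g) = 1 := by
        rwa [pow_add, hTc, show 2 * (T * (c / 2)) = c / 2 * (2 * T) by ring, pow_mul, hqc, pow_mul,
          ← Int.cast_pow, show b ^ 2 = 1 by rw [pow_two, S.mul_self], Int.cast_one, one_pow, one_mul] at h1
      have hd := S.pow_eq_one_iff.1 h2
      have hc' := S.hc
      split_ifs at hc' with hev
      · have := Nat.le_of_dvd (by omega) hd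
        omega
      · have := Nat.le_of_dvd (by omega)
          ((Nat.coprime_two_right.2 (Nat.not_even_iff_odd.1 hev)).dvd_of_dvd_mul_left hd)
        omega

end Cfsg.Agent.OrthFix.TS
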