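import Cfsg.Agent.OrthFix.TS.Build

/-!
The criterion for fixed totally singular subspaces, and its arithmetic form.
-/

set_option autoImplicit false
set_option linter.unusedSectionVars false
set_option linter.style.haveILetI false

namespace Cfsg.Agent.OrthFix.TS

open QuadraticMap
open Cfsg.Agent.UnitaryOrthogonal (PolarND orth form_add)

universe u v

variable {F : Type u} [Field F] [Fintype F] {r i c : ℕ} {b : ℤ}
variable {V : Type v} [AddCommGroup V] [Module F V] [FiniteDimensional F V] [Finite V]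
  {Q : QuadraticForm F V}

/-- The guaranteed number of pairs among `s` moved blocks. -/
def cap (r i s : ℕ) : ℕ := if Even i then (s + 1 - (r - 1) / i) / 2 else s

/-- `s` moved blocks leave room. -/
def Ok (r i c : ℕ) (b : ℤ) (n : ℕ) (εV : ℤ) (m s : ℕ) : Prop :=
  ∃ k, k ≤ cap r i s ∧ k * i ≤ m ∧ TSok (n - s * c) (εV * b ^ s) (m - k * i)

theorem finrank_eq_add (hg : ∀ {y : V} {g : orth Q}, g ^ r = 1 → y ∈ mvS g → g.1 y = y → y = 0)
    {g : orth Q} (h : g ^ r = 1) {W : Submodule F V} (hinv : ∀ x ∈ W, g.1 x ∈ W) :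
    Module.finrank F W = Module.finrank F ↥(W ⊓ fixS g) + Module.finrank F ↥(W ⊓ mvS g) := by
  refine le_antisymm ?_ ?_
  · let T : W →ₗ[F] V := (g.1.toLinearMap - LinearMap.id).comp W.subtype
    have h1 := LinearMap.finrank_range_add_finrank_ker T
    have h2 : Module.finrank F (LinearMap.range T) ≤ Module.finrank F ↥(W ⊓ mvS g) :=
      Submodule.finrank_mono (by
        rintro _ ⟨x, rfl⟩
        exact ⟨W.sub_mem (hinv x x.2) x.2, sub_mem_mvS g x⟩)
    have h3 : Module.finrank F (LinearMap.ker T) ≤ Module.finrank F ↥(W ⊓ fixS g) := by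
      rw [← Submodule.finrank_map_subtype_eq W (LinearMap.ker T)]
      refine Submodule.finrank_mono ?_
      rintro _ ⟨x, hx, rfl⟩
      exact ⟨x.2, hx⟩
    omega
  · rw [← finrank_sup_of_disjoint (Submodule.disjoint_def.2 fun x (hx : x ∈ W ⊓ fixS g) (hx' : x ∈ W ⊓ mvS g) => hg h hx'.2 (mem_fixS.1 hx.2))]
    exact Submodule.finrank_mono (sup_le inf_le_left inf_le_left)

/-- All elements of order `r` fix a totally singular `m`-space iff every number of blocks is fine. -/
theorem criterion (S : Setup F r i c b) (hQ : PolarND Q) {εV : ℤ} (hs : Sig Q εV) {n : ℕ}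
    (hn : Module.finrank F V = n) (m : ℕ) :
    (∀ g : orth Q, g ^ r = 1 → g ≠ 1 →
      ∃ W : Submodule F V, (Module.finrank F W = m ∧ ∀ w ∈ W, Q w = 0) ∧ ∀ x ∈ W, g.1 x ∈ W) ↔
    ∀ s, 0 < s → s * c ≤ n → (s * c = n → εV = b ^ s) → Ok r i c b n εV m s := by
  constructor
  · intro H s hs0 hle hfull
    obtain ⟨g, hg, hgd, hW⟩ := exists_worst S hQ hs s (by rwa [hn]) (by rwa [hn])
    have hg1 : g ≠ 1 := by
      rintro rfl
      have h0 : mvS (1 : orth Q) = ⊥ := (Submodule.eq_bot_iff _).2 (by rintro _ ⟨x, rfl⟩; simp)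
      rw [h0, finrank_bot] at hgd
      exact (Nat.mul_pos hs0 S.c_pos).ne hgd
    obtain ⟨W, ⟨hWd, hW0⟩, hinv⟩ := H g hg hg1
    obtain ⟨t, ht, -, hf, hfs, hnt⟩ := exists_type S hQ hs hg
    obtain rfl : t = s := Nat.eq_of_mul_eq_mul_right S.c_pos (ht.symm.trans hgd)
    have hinv1 : ∀ x ∈ W ⊓ mvS g, g.1 x ∈ W ⊓ mvS g := fun x hx => ⟨hinv x hx.1, mvS_invariant g x hx.2⟩
    obtain ⟨k, hk⟩ := i_dvd_finrank_of_fpf S hg _ hinv1 (fun x hx h => eq_zero_of_mem hg S.ne hx.2 h)
    have hk' := hW _ inf_le_right hinv1 (fun x hx => hW0 x hx.1)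
    rw [hk, mul_comm i k] at hk'
    have hd := finrank_eq_add (fun h hy he => eq_zero_of_mem h S.ne hy he) hg hinv
    rw [hWd, hk] at hd
    refine ⟨k, Nat.le_of_mul_le_mul_right hk' S.i_pos, by rw [mul_comm]; omega, ?_⟩
    have h := tsok_of_ts hf hfs (inf_le_right : W ⊓ fixS g ≤ fixS g) (fun x hx => hW0 x hx.1)
    rwa [show n - t * c = Module.finrank F (fixS g) by omega,
      show m - k * i = Module.finrank F ↥(W ⊓ fixS g) by rw [mul_comm]; omega]
  · intro H g hg hg1
    obtain ⟨s, hsd, hmv, hf, hfs, hns⟩ := exists_type S hQ hs hg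
    have hs0 : 0 < s := Nat.pos_of_ne_zero fun h => hg1 (UnitaryOrthogonal.orth_ext fun x => by
      rw [h, zero_mul] at hsd
      exact sub_eq_zero.1 ((Submodule.eq_bot_iff _).1 (Submodule.finrank_eq_zero.1 hsd) _ (sub_mem_mvS g x)))
    obtain ⟨k, hk, hkm, hok⟩ := H s hs0 (by omega) (fun e => by
      have h0 := (hf.valid hfs).zero (by omega)
      rw [← mul_one εV, ← h0, ← mul_assoc, hs.mul_self, one_mul])
    rw [show n - s * c = Module.finrank F (fixS g) by omega] at hok
    obtain ⟨T₀, hT₀, hT₀0, hT₀d⟩ := exists_ts hf hfs hok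
    obtain ⟨T₁, hT₁, hT₁i, hT₁0, hT₁d⟩ := exists_ts_moved S hg k s (mvS g) hmv (mvS_invariant g)
      (fun x hx h => eq_zero_of_mem hg S.ne hx h) hsd hk
    obtain ⟨h1, h2, h3⟩ := ts_sup hf hT₀ (hT₁.trans (mvS_le_perp g)) hT₀0 hT₁0
      (fun x hx => by rw [mem_fixS.1 (hT₀ hx)]; exact hx) hT₁i
    exact ⟨T₀ ⊔ T₁, ⟨by rw [h3, hT₀d, hT₁d]; omega, h1⟩, h2⟩

theorem ok_descend (S : Setup F r i c b) {n s d : ℕ} {εV : ℤ} {m : ℕ}
    (hd : d = if Even i then 2 else 1) (hle : (s + d) * c ≤ n) (h : Ok r i c b n εV m (s + d)) :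
    Ok r i c b n εV m s := by
  obtain ⟨k, hk, hkm, hok⟩ := h
  have hb : b ^ (s + d) = b ^ s := by
    rw [pow_add, hd, S.hb]
    split_ifs <;> simp
  rw [hb] at hok
  have hdc : d * c = 2 * i := by rw [hd, S.hc]; split_ifs <;> ring
  have e1 : (s + d) * c = s * c + 2 * i := by rw [add_mul, hdc]
  have hcap : cap r i (s + d) ≤ cap r i s + 1 := by
    unfold cap
    rw [hd]
    split_ifs <;> omega
  by_cases hks : k ≤ cap r i s
  · refine ⟨k, hks, hkm, ?_⟩
    have := S.i_pos
    unfold TSok at *
    omega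
  · obtain ⟨k', rfl⟩ : ∃ k', k = k' + 1 := ⟨k - 1, by omega⟩
    rw [Nat.succ_mul] at hkm hok
    refine ⟨k', by omega, by omega, ?_⟩
    unfold TSok at *
    omega

/-- The arithmetic form. -/
theorem forall_ok_iff (S : Setup F r i c b) {n m T C : ℕ} {εV εC : ℤ} (hT : TopC c b C εC)
    (hn : n = T * c + C) (hV : εV = εC * b ^ T) (hwitt : TSok n εV m)
    (hN : ¬ (m < i ∧ TSok C εC m)) :
    (∀ s, 0 < s → s * c ≤ n → (s * c = n → εV = b ^ s) → Ok r i c b n εV m s) ↔
    (i ≤ m ∧ m / i ≤ cap r i T ∧ TSok C εC (m % i) ∧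
      (Even i → m / i ≤ cap r i (T - 1) ∧ TSok (C + i) (-εC) (m % i))) := by
  have hi := S.i_pos
  have hcpos := S.c_pos
  have hdm := Nat.div_add_mod' m i
  have hlt := Nat.mod_lt m hi
  have hbT : εV * b ^ T = εC := by rw [hV, mul_assoc, ← mul_pow, S.mul_self, one_pow, mul_one]
  have hCc := hT.le
  have hTs : T * c ≤ n := by omega
  have hfeas : T * c = n → εV = b ^ T := fun e => by rw [hV, hT.zero (by omega), one_mul]
  have hlow : ∀ {k n0 : ℕ} {e : ℤ}, k * i ≤ m → TSok n0 e (m - k * i) → n0 ≤ 2 * i →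
      (n0 = 2 * i → e ≠ 1) → k = m / i := by
    intro k n0 e hk hok hn0 he
    have h1 : k ≤ m / i := (Nat.le_div_iff_mul_le hi).2 hk
    rcases lt_or_eq_of_le h1 with h | h
    · exfalso
      have h2 : (k + 1) * i ≤ m / i * i := Nat.mul_le_mul_right i h
      rw [Nat.succ_mul] at h2
      unfold TSok at hok
      rcases hok with hok | ⟨hok, he1⟩
      · omega
      · exact he (by omega) he1
    · exact h
  have hC2 : C ≤ 2 * i ∧ (C = 2 * i → εC ≠ 1) := by
    have hf := hT.full
    rw [S.hb, S.hc] at hf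
    rw [S.hc] at hCc
    split_ifs at hCc hf with hev
    · exact ⟨by omega, fun e => by omega⟩
    · exact ⟨by omega, fun e => by rw [hf e]; decide⟩
  constructor
  · intro H
    have hT0 : 0 < T := Nat.pos_of_ne_zero fun h => by
      subst h
      rw [zero_mul, zero_add] at hn
      rw [pow_zero, mul_one] at hV
      subst hn hV
      refine hN ⟨?_, hwitt⟩
      by_contra hmi
      have := hlow (k := 0) (by omega) (by rwa [zero_mul, Nat.sub_zero]) hC2.1 hC2.2
      have := Nat.div_pos (not_lt.1 hmi) hi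
      omega
    obtain ⟨k, hk, hkm, hok⟩ := H T hT0 hTs hfeas
    rw [show n - T * c = C by omega, hbT] at hok
    obtain rfl := hlow hkm hok hC2.1 hC2.2
    rw [show m - m / i * i = m % i by omega] at hok
    have him : i ≤ m := by
      by_contra h
      exact hN ⟨by omega, by rwa [Nat.mod_eq_of_lt (by omega)] at hok⟩
    have hm1 := Nat.div_pos him hi
    refine ⟨him, hk, hok, fun hev => ?_⟩
    have hc : c = i := by rw [S.hc, if_pos hev]
    have hb : b = -1 := by rw [S.hb, if_pos hev]
    have hT2 : 2 ≤ T := by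
      by_contra h
      obtain rfl : T = 1 := by omega
      simp only [cap, if_pos hev] at hk
      have ht : 0 < (r - 1) / i :=
        Nat.div_pos (Nat.le_of_dvd (by have := S.prime.two_le; omega) S.i_dvd_pred) hi
      omega
    have e1 : (T - 1) * c + c = T * c := by rw [← Nat.succ_mul]; congr 1; omega
    obtain ⟨k, hk', hkm', hok'⟩ := H (T - 1) (by omega) (by omega) (fun e => by omega)
    rw [show n - (T - 1) * c = C + i by omega, show εV * b ^ (T - 1) = -εC by
      rw [← hbT]
      conv_rhs => rw [show T = T - 1 + 1 by omega, pow_succ, hb]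
      rw [hb]; ring] at hok'
    have := hlow hkm' hok' (by omega) (fun e h1 => by
      have := hT.full (by omega)
      omega)
    subst this
    rw [show m - m / i * i = m % i by omega] at hok'
    exact ⟨hk', hok'⟩
  · rintro ⟨him, hkT, hokT, hev'⟩ s hs0 hle hfull
    have hsT : s ≤ T := by
      refine type_le S hT hV hn (s := s) (k := n - s * c) (by omega) fun e => ?_
      rw [hfull (by omega), ← mul_pow, S.mul_self, one_pow]
    have top : Ok r i c b n εV m T :=
      ⟨m / i, hkT, by omega, by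
        rwa [show n - T * c = C by omega, hbT, show m - m / i * i = m % i by omega]⟩
    have step : ∀ d, d = (if Even i then 2 else 1) → ∀ j s', s' + j * d = T → Ok r i c b n εV m T →
        Ok r i c b n εV m s' := by
      intro d hd j
      induction j with
      | zero => intro s' h h'; rw [zero_mul, add_zero] at h; rwa [h]
      | succ j ih =>
        intro s' h h'
        rw [Nat.succ_mul] at h
        refine ok_descend S hd ?_ (ih (s' + d) (by omega) h')
        have : (s' + d) * c ≤ T * c := Nat.mul_le_mul_right c (by omega)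
        omega
    by_cases hev : Even i
    · have hc : c = i := by rw [S.hc, if_pos hev]
      have hb : b = -1 := by rw [S.hb, if_pos hev]
      obtain ⟨hk1, hok1⟩ := hev' hev
      rcases Nat.even_or_odd (T - s) with ⟨j, hj⟩ | ⟨j, hj⟩
      · exact step 2 (if_pos hev).symm j s (by omega) top
      · have e1 : (T - 1) * c + c = T * c := by rw [← Nat.succ_mul]; congr 1; omega
        have top' : Ok r i c b n εV m (T - 1) :=
          ⟨m / i, hk1, by omega, by
            rwa [show n - (T - 1) * c = C + i by omega, show εV * b ^ (T - 1) = -εC by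
              rw [← hbT]
              conv_rhs => rw [show T = T - 1 + 1 by omega, pow_succ, hb]
              rw [hb]; ring, show m - m / i * i = m % i by omega]⟩
        have step' : ∀ j s', s' + j * 2 = T - 1 → Ok r i c b n εV m s' := by
          intro j
          induction j with
          | zero => intro s' h; rw [zero_mul, add_zero] at h; rwa [h]
          | succ j ih =>
            intro s' h
            refine ok_descend S (d := 2) (if_pos hev).symm ?_ (ih (s' + 2) (by omega))
            have : (s' + 2) * c ≤ T * c := Nat.mul_le_mul_right c (by omega)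
            omega
        exact step' j s (by omega)
    · exact step 1 (if_neg hev).symm (T - s) s (by omega) top

end Cfsg.Agent.OrthFix.TS
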