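import Cfsg.Agent.OrthFix.Core
import Cfsg.Agent.OrthFix.TS.Count

/-!
Invariant totally singular subspaces in the moved part of an element of odd prime order.
-/

set_option autoImplicit false
set_option linter.unusedSectionVars false
set_option linter.style.haveILetI false

namespace Cfsg.Agent.OrthFix.TS

open QuadraticMap Polynomial
open Cfsg.Agent.UnitaryOrthogonal (PolarND orth polar_self_eq form_add form_smul level)

universe u v

variable {F : Type u} [Field F] [Fintype F] {r i c : ℕ} {b : ℤ}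
variable {V : Type v} [AddCommGroup V] [Module F V] [FiniteDimensional F V] [Finite V]
  {Q : QuadraticForm F V} {g : orth Q}

theorem aeval_X_pow_sub_one (hg : g ^ r = 1) (x : V) : aeval (toEnd Q g) (X ^ r - 1 : F[X]) x = 0 := by
  have : toEnd Q g ^ r = 1 := by rw [← map_pow, hg, map_one]
  simp [this]

/-- A factor that kills a moved vector divides `X ^ r - 1`. -/
theorem dvd_of_kills (hg : g ^ r = 1) {P : F[X]} (hP : Irreducible P) {v : V} (hv : v ≠ 0)
    (hPv : aeval (toEnd Q g) P v = 0) : P ∣ X ^ r - 1 := by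
  by_contra hnd
  obtain ⟨A, B, hAB⟩ := hP.coprime_iff_not_dvd.2 hnd
  have e := congrArg (fun p => aeval (toEnd Q g) p v) hAB
  simp only [map_add, map_mul, LinearMap.add_apply, Module.End.mul_apply, hPv, map_zero,
    aeval_X_pow_sub_one hg, map_one, Module.End.one_apply, add_zero] at e
  exact hv e.symm

variable {U : Submodule F V}

/-- The sum of the powers kills a fixed-point-free space. -/
theorem geom_kills (hg : g ^ r = 1) (hinv : ∀ x ∈ U, g.1 x ∈ U) (hfix : ∀ x ∈ U, g.1 x = x → x = 0) :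
    ∀ x ∈ U, aeval (toEnd Q g) (∑ j ∈ Finset.range r, (X : F[X]) ^ j) x = 0 := by
  intro x hx
  refine hfix _ (aeval_mem (f := toEnd Q g) hinv _ x hx) (sub_eq_zero.1 ?_)
  have e := congrArg (fun p => aeval (toEnd Q g) p x) (mul_geom_sum (X : F[X]) r)
  simp only [map_mul, map_sub, aeval_X, map_one, Module.End.mul_apply, LinearMap.sub_apply,
    Module.End.one_apply, toEnd_apply] at e
  rw [e]
  simpa using aeval_X_pow_sub_one (F := F) hg x

/-- Some irreducible factor kills a vector. -/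
theorem exists_killed : ∀ (n : ℕ) (G : F[X]), G ≠ 0 → G.natDegree = n →
    ∀ v : V, v ≠ 0 → aeval (toEnd Q g) G v = 0 →
    ∃ (P A : F[X]), Irreducible P ∧ aeval (toEnd Q g) A v ≠ 0 ∧
      aeval (toEnd Q g) P (aeval (toEnd Q g) A v) = 0 := by
  intro n
  induction n using Nat.strong_induction_on with
  | _ n ih =>
    intro G hG hn v hv hGv
    have hnu : ¬ IsUnit G := fun hu => by
      obtain ⟨a, ha, rfl⟩ := Polynomial.isUnit_iff.1 hu
      rw [aeval_C, Module.algebraMap_end_apply, smul_eq_zero] at hGv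
      exact hv (hGv.resolve_left ha.ne_zero)
    obtain ⟨P, hP, A, rfl⟩ := WfDvdMonoid.exists_irreducible_factor hnu hG
    by_cases hA : aeval (toEnd Q g) A v = 0
    · have hA0 : A ≠ 0 := right_ne_zero_of_mul hG
      exact ih A.natDegree (by rw [← hn, natDegree_mul hP.ne_zero hA0]; have := hP.natDegree_pos; omega)
        A hA0 rfl v hv hA
    · exact ⟨P, A, hP, hA, by rwa [← Module.End.mul_apply, ← map_mul]⟩

variable (S : Setup F r i c b)
include S

/-- Two invariant `i`-spaces that meet are equal. -/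
theorem eq_of_meet (hg : g ^ r = 1) {M N : Submodule F V} (hM : ∀ x ∈ M, g.1 x ∈ M)
    (hN : ∀ x ∈ N, g.1 x ∈ N) (hfix : ∀ x ∈ M, g.1 x = x → x = 0) (hMd : Module.finrank F M = i)
    (hNd : Module.finrank F N = i) {v : V} (hv : v ≠ 0) (hvM : v ∈ M) (hvN : v ∈ N) : M = N := by
  obtain ⟨k, hk⟩ := i_dvd_finrank_of_fpf S hg (M ⊓ N) (fun x hx => ⟨hM x hx.1, hN x hx.2⟩)
    (fun x hx => hfix x hx.1)
  have hk0 : k ≠ 0 := fun h => hv ((Submodule.eq_bot_iff _).1
    (Submodule.finrank_eq_zero.1 (by rw [hk, h, mul_zero])) v (Submodule.mem_inf.2 ⟨hvM, hvN⟩))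
  have hle : i ≤ Module.finrank F ↥(M ⊓ N) := by
    rw [hk]; exact Nat.le_mul_of_pos_right i (Nat.pos_of_ne_zero hk0)
  have e1 : M ⊓ N = M := Submodule.eq_of_le_of_finrank_le inf_le_left (hMd.le.trans hle)
  have e2 : M ⊓ N = N := Submodule.eq_of_le_of_finrank_le inf_le_right (hNd.le.trans hle)
  exact e1.symm.trans e2

/-- A killed vector spans an invariant `i`-space; the factor has degree `i`. -/
theorem cyclic (hg : g ^ r = 1) (hinv : ∀ x ∈ U, g.1 x ∈ U) (hfix : ∀ x ∈ U, g.1 x = x → x = 0)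
    {P : F[X]} (hP : Irreducible P) {v : V} (hvU : v ∈ U) (hv : v ≠ 0)
    (hPv : aeval (toEnd Q g) P v = 0) :
    P.natDegree = i ∧ ∃ M, M ≤ U ∧ v ∈ M ∧ (∀ x ∈ M, g.1 x ∈ M) ∧ Module.finrank F M = i ∧
      ∀ x ∈ M, aeval (toEnd Q g) P x = 0 := by
  set f := toEnd Q g with hf
  let L : F[X] →ₗ[F] V := (LinearMap.applyₗ v).comp (aeval f).toLinearMap
  have hL : ∀ p, L p = aeval f p v := fun _ => rfl
  have hmul : ∀ p, L (P * p) = 0 := fun p => by
    rw [hL, mul_comm, map_mul, Module.End.mul_apply, hPv, map_zero]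
  have hmodL : ∀ p, L p = L (p % P) := fun p => by
    conv_lhs => rw [← EuclideanDomain.div_add_mod p P, map_add, hmul, zero_add]
  let M := LinearMap.range L
  have hMU : M ≤ U := by
    rintro _ ⟨p, rfl⟩
    exact aeval_mem (f := f) hinv p v hvU
  have hMi : ∀ x ∈ M, g.1 x ∈ M := by
    rintro _ ⟨p, rfl⟩
    exact ⟨X * p, by rw [hL, hL, map_mul, aeval_X, Module.End.mul_apply]; rfl⟩
  have hdeg : P.natDegree ∣ i := by
    refine hP.natDegree_dvd_of_dvd_X_pow_card_pow_sub_X ?_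
    rw [Nat.card_eq_fintype_card]
    have h1 : 1 ≤ Fintype.card F ^ i := Nat.one_le_pow _ _ Fintype.card_pos
    obtain ⟨k, hk⟩ : r ∣ Fintype.card F ^ i - 1 := by
      rw [← ZMod.natCast_eq_zero_iff, Nat.cast_sub h1, Nat.cast_pow, Nat.cast_one, sub_eq_zero,
        S.pow_eq_one_iff]
    refine (dvd_of_kills hg hP hv hPv).trans ((dvd_trans ?_
      (dvd_mul_left ((X : F[X]) ^ (Fintype.card F ^ i - 1) - 1) X)).trans (dvd_of_eq ?_))
    · rw [hk, pow_mul]; exact sub_one_dvd_pow_sub_one _ k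
    · rw [mul_sub, mul_one, ← pow_succ', Nat.sub_add_cancel h1]
  have hdim : Module.finrank F M ≤ P.natDegree := by
    have hle : M ≤ (degreeLT F P.natDegree).map L := by
      rintro _ ⟨p, rfl⟩
      refine ⟨p % P, mem_degreeLT.2 ?_, (hmodL p).symm⟩
      exact (degree_mod_lt p hP.ne_zero).trans_le degree_le_natDegree
    refine (Submodule.finrank_mono hle).trans ?_
    haveI : FiniteDimensional F (degreeLT F P.natDegree) :=
      Module.Finite.equiv (degreeLTEquiv F P.natDegree).symm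
    refine (Submodule.finrank_map_le _ _).trans (le_of_eq ?_)
    rw [(degreeLTEquiv F P.natDegree).finrank_eq, Module.finrank_fintype_fun_eq_card, Fintype.card_fin]
  have hvM : v ∈ M := ⟨1, by rw [hL, map_one]; rfl⟩
  obtain ⟨k, hk⟩ := i_dvd_finrank_of_fpf S hg M hMi (fun x hx => hfix x (hMU hx))
  have hk0 : k ≠ 0 := fun h => hv ((Submodule.eq_bot_iff _).1
    (Submodule.finrank_eq_zero.1 (by rw [hk, h, mul_zero])) v hvM)
  have hle : i ≤ Module.finrank F M := by
    rw [hk]; exact Nat.le_mul_of_pos_right i (Nat.pos_of_ne_zero hk0)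
  have hPi := Nat.le_of_dvd S.i_pos hdeg
  refine ⟨by omega, M, hMU, hvM, hMi, by omega, ?_⟩
  rintro _ ⟨p, rfl⟩
  rw [hL, ← Module.End.mul_apply, ← map_mul, mul_comm, map_mul, Module.End.mul_apply, hPv, map_zero]

/-- For even `i`, the component of a factor is non-degenerate. -/
theorem component (hg : g ^ r = 1) (hi : Even i) (hU : NDOn Q U) (hinv : ∀ x ∈ U, g.1 x ∈ U)
    {P : F[X]} (hP : Irreducible P) :
    NDOn Q (U ⊓ LinearMap.ker (aeval (toEnd Q g) P)) ∧
      ∀ x ∈ U ⊓ LinearMap.ker (aeval (toEnd Q g) P), g.1 x ∈ U ⊓ LinearMap.ker (aeval (toEnd Q g) P) := by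
  set f := toEnd Q g with hf
  constructor
  swap
  · intro x hx
    refine ⟨hinv x hx.1, ?_⟩
    show aeval f P (g.1 x) = 0
    rw [show g.1 x = aeval f (X : F[X]) x by rw [aeval_X]; rfl, ← Module.End.mul_apply, ← map_mul, mul_comm,
      map_mul, Module.End.mul_apply, LinearMap.mem_ker.1 hx.2, map_zero]
  refine ndOn_iff.2 fun x hx hxy => ?_
  by_contra hx0
  obtain ⟨G, hG⟩ := dvd_of_kills hg hP hx0 hx.2
  haveI : Fact r.Prime := ⟨S.prime⟩
  have hsq : Squarefree (X ^ r - 1 : F[X]) := (X_pow_sub_one_separable_iff.2 S.ne).squarefree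
  obtain ⟨A, B, hAB⟩ : IsCoprime P G := hP.coprime_iff_not_dvd.2 fun hd =>
    hP.not_isUnit (hsq P (hG ▸ mul_dvd_mul_left P hd))
  have hfr : f ^ r = 1 := by rw [hf, ← map_pow, hg, map_one]
  have hstar : aeval (f ^ (r - 1)) P x = 0 := by
    have hmod : (r - 1) % r = Fintype.card F ^ (i / 2) % r := by
      have h1 := S.pow_half
      rw [S.hc, if_pos hi, S.hb, if_pos hi] at h1
      refine (ZMod.natCast_eq_natCast_iff' _ _ _).1 ?_
      rw [Nat.cast_sub S.prime.one_lt.le, Nat.cast_pow, h1]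
      simp
    rw [pow_eq_pow_of_mod hfr hmod, ← expand_aeval]
    have hexp : ∀ k : ℕ, expand F (Fintype.card F ^ k) P = P ^ Fintype.card F ^ k := by
      intro k
      induction k with
      | zero => simp
      | succ k ih => rw [pow_succ', expand_mul, ih, map_pow, FiniteField.expand_card, ← pow_mul]
    rw [hexp, ← Nat.sub_add_cancel (pow_pos Fintype.card_pos (i / 2) : 0 < Fintype.card F ^ (i / 2)),
      pow_succ, map_mul, Module.End.mul_apply, LinearMap.mem_ker.1 hx.2, map_zero]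
  refine hx0 (ndOn_iff.1 hU x hx.1 fun y hy => ?_)
  have e := congrArg (fun p => aeval f p y) hAB
  simp only [map_add, LinearMap.add_apply, map_one, Module.End.one_apply] at e
  rw [← e, polar_add_right]
  have h1 : polar Q x (aeval f (A * P) y) = 0 := by
    rw [mul_comm, map_mul, Module.End.mul_apply, polar_comm, polar_aeval hg S.prime.pos, hstar,
      polar_zero_right]
  have h2 : polar Q x (aeval f (B * G) y) = 0 := by
    refine hxy _ ⟨aeval_mem (f := f) hinv _ y hy, ?_⟩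
    show aeval f P (aeval f (B * G) y) = 0
    rw [← Module.End.mul_apply, ← map_mul, show P * (B * G) = B * (X ^ r - 1) by rw [hG]; ring, map_mul,
      Module.End.mul_apply, aeval_X_pow_sub_one hg, map_zero]
  rw [h1, h2, add_zero]

/-- Two blocks with one factor contain an invariant totally singular `i`-space. -/
theorem pair (hg : g ^ r = 1) (hi : Even i) {H : Submodule F V} (hH : NDOn Q H)
    (hinv : ∀ x ∈ H, g.1 x ∈ H) (hfix : ∀ x ∈ H, g.1 x = x → x = 0) {P : F[X]} (hP : Irreducible P)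
    (hPH : ∀ x ∈ H, aeval (toEnd Q g) P x = 0) (hd : Module.finrank F H = 2 * i) :
    ∃ N, N ≤ H ∧ (∀ x ∈ N, g.1 x ∈ N) ∧ (∀ x ∈ N, Q x = 0) ∧ Module.finrank F N = i := by
  classical
  by_contra hcon
  have hc : c = i := by rw [S.hc, if_pos hi]
  have hb : b = -1 := by rw [S.hb, if_pos hi]
  obtain ⟨k, hk, hHs⟩ := fpf_sign_on S hH hg hinv hfix
  obtain rfl : k = 2 := Nat.eq_of_mul_eq_mul_right S.i_pos (by rw [← hd, hk, hc])
  rw [hb, neg_one_sq] at hHs
  choose N hN using fun v : {v : H // v ≠ 0} => (cyclic S hg hinv hfix hP v.1.2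
    (fun h => v.2 (Subtype.ext h)) (hPH _ v.1.2)).2
  obtain ⟨h, hh⟩ := hi
  set q : ℕ := Fintype.card F with hq
  haveI := Fintype.ofFinite H
  haveI := Fintype.ofFinite V
  haveI := Fintype.ofFinite (Submodule F V)
  let Nz := {v : H // v ≠ 0}
  let 𝒩 : Finset (Submodule F V) := Finset.univ.image N
  have huniq : ∀ v : Nz, ∀ W ∈ 𝒩, (v.1 : V) ∈ W → N v = W := by
    intro v W hW hvW
    obtain ⟨w, -, rfl⟩ := Finset.mem_image.1 hW
    exact eq_of_meet S hg (hN v).2.2.1 (hN w).2.2.1 (fun x hx => hfix x ((hN v).1 hx))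
      (hN v).2.2.2.1 (hN w).2.2.2.1 (fun e => v.2 (Subtype.ext e)) (hN v).2.1 hvW
  -- all nonzero vectors, and the singular ones, are distributed over the invariant `i`-spaces
  have hfib : ∀ (s : Finset Nz) (W : Submodule F V), W ∈ 𝒩 →
      (s.filter fun v => N v = W).card = (s.filter fun v => (v.1 : V) ∈ W).card := by
    intro s W hW
    congr 1
    refine Finset.filter_congr fun v _ => ⟨fun e => e ▸ (hN v).2.1, fun hv => huniq v W hW hv⟩
  have hA : ∀ W ∈ 𝒩, Nat.card {x : V // x ∈ W ∧ x ≠ 0 ∧ Q x = 0} + 1 = level (Q.comp W.subtype) 0 ∧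
      SigOn Q W (-1) ∧ Module.finrank F W = i := by
    intro W hW
    obtain ⟨w, -, rfl⟩ := Finset.mem_image.1 hW
    obtain ⟨hle, -, hWi, hWd, -⟩ := hN w
    rcases ndOn_or_ts S hg hWi (fun x hx => hfix x (hle hx)) hWd with hn | ⟨-, hts⟩
    · obtain ⟨k, hk', hs⟩ := fpf_sign_on S hn hg hWi (fun x hx => hfix x (hle hx))
      obtain rfl : k = 1 := Nat.eq_of_mul_eq_mul_right S.c_pos (by rw [← hk', hWd, hc, one_mul])
      rw [hb, pow_one] at hs
      refine ⟨?_, hs, hWd⟩
      haveI := Fintype.ofFinite (N w)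
      let e : {x : V // x ∈ N w ∧ x ≠ 0 ∧ Q x = 0} ≃
          {x : {x : N w // Q (x : V) = 0} // ¬ x = ⟨0, QuadraticMap.map_zero Q⟩} :=
        { toFun := fun x => ⟨⟨⟨x.1, x.2.1⟩, x.2.2.2⟩, fun e => x.2.2.1
            (congrArg (fun y : {x : N w // Q (x : V) = 0} => ((y.1 : V))) e)⟩
          invFun := fun x => ⟨x.1.1, x.1.1.2, fun e => x.2 (Subtype.ext (Subtype.ext e)), x.1.2⟩
          left_inv := fun _ => rfl
          right_inv := fun _ => rfl }
      rw [Nat.card_congr e, Nat.card_eq_fintype_card, Fintype.card_subtype_compl, Fintype.card_subtype_eq,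
        ← Nat.card_eq_fintype_card]
      have hpos : 0 < Nat.card {x : N w // Q (x : V) = 0} := Nat.card_pos_iff.2
        ⟨⟨⟨0, QuadraticMap.map_zero Q⟩⟩, inferInstance⟩
      show Nat.card {x : N w // Q (x : V) = 0} - 1 + 1 = Nat.card {x : N w // Q (x : V) = 0}
      omega
    · exact absurd ⟨N w, hle, hWi, hts, hWd⟩ hcon
  set h' := i / 2 with hh'
  have hq1 : (1 : ℤ) < q := by rw [hq]; exact_mod_cast Fintype.one_lt_card
  -- total numbers
  have tot1 : (Fintype.card Nz : ℤ) = (q : ℤ) ^ (2 * i) - 1 := by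
    have e : Fintype.card Nz + 1 = q ^ (2 * i) := by
      rw [Fintype.card_subtype_compl, Fintype.card_subtype_eq, ← hd, hq,
        ← Nat.card_eq_fintype_card (α := H), Module.natCard_eq_pow_finrank (K := F),
        Nat.card_eq_fintype_card]
      have : 0 < Fintype.card F ^ Module.finrank F H := pow_pos Fintype.card_pos _
      omega
    have := congrArg (Nat.cast : ℕ → ℤ) e
    push_cast at this
    linarith
  have fib1 : ∀ W ∈ 𝒩, ((Finset.univ.filter fun v : Nz => (v.1 : V) ∈ W).card : ℤ) = (q : ℤ) ^ i - 1 := by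
    intro W hW
    obtain ⟨w, -, rfl⟩ := Finset.mem_image.1 hW
    have e : (Finset.univ.filter fun v : Nz => (v.1 : V) ∈ N w).card + 1 = q ^ i := by
      rw [← (hN w).2.2.2.1, hq, ← card_nonzero_mem (N w), ← Fintype.card_subtype, ← Nat.card_eq_fintype_card]
      congr 1
      exact Nat.card_congr
        { toFun := fun v => ⟨v.1.1, v.2, fun e => v.1.2 (Subtype.ext e)⟩
          invFun := fun x => ⟨⟨⟨x.1, (hN w).1 x.2.1⟩, fun e => x.2.2 (congrArg Subtype.val e)⟩, x.2.1⟩
          left_inv := fun _ => rfl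
          right_inv := fun _ => rfl }
    have := congrArg (Nat.cast : ℕ → ℤ) e
    push_cast at this
    linarith
  set sing := (Finset.univ : Finset Nz).filter fun v => Q (v.1 : V) = 0 with hsing
  have tot2 : (q : ℤ) * (sing.card + 1) = (q : ℤ) ^ (2 * i) + ((q : ℤ) - 1) * (q : ℤ) ^ i := by
    have e1 : sing.card + 1 = level (Q.comp H.subtype) 0 := by
      rw [hsing, ← Fintype.card_subtype, ← Nat.card_eq_fintype_card]
      haveI := Fintype.ofFinite {x : H // Q (x : V) = 0}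
      let e : {v : Nz // Q (v.1 : V) = 0} ≃
          {x : {x : H // Q (x : V) = 0} // ¬ x = ⟨0, QuadraticMap.map_zero Q⟩} :=
        { toFun := fun x => ⟨⟨x.1.1, x.2⟩, fun e => x.1.2 (congrArg Subtype.val e)⟩
          invFun := fun x => ⟨⟨x.1.1, fun e => x.2 (Subtype.ext e)⟩, x.1.2⟩
          left_inv := fun _ => rfl
          right_inv := fun _ => rfl }
      rw [Nat.card_congr e, Nat.card_eq_fintype_card, Fintype.card_subtype_compl, Fintype.card_subtype_eq,
        ← Nat.card_eq_fintype_card]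
      have hpos : 0 < Nat.card {x : H // Q (x : V) = 0} := Nat.card_pos_iff.2
        ⟨⟨⟨0, QuadraticMap.map_zero Q⟩⟩, inferInstance⟩
      show Nat.card {x : H // Q (x : V) = 0} - 1 + 1 = Nat.card {x : H // Q (x : V) = 0}
      omega
    have e2 := level_zero_eq (Q := Q.comp H.subtype) hHs
    rw [hd, if_pos (even_two_mul i), one_mul, Nat.mul_div_cancel_left i two_pos, ← hq] at e2
    rw [show ((sing.card : ℤ) + 1) = ((sing.card + 1 : ℕ) : ℤ) by push_cast; ring, e1, e2]
  have fib2 : ∀ W ∈ 𝒩, (q : ℤ) * (((sing.filter fun v => (v.1 : V) ∈ W).card : ℤ) + 1) =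
      (q : ℤ) ^ i - ((q : ℤ) - 1) * (q : ℤ) ^ h' := by
    intro W hW
    obtain ⟨e1, hs, hWd⟩ := hA W hW
    obtain ⟨w, -, rfl⟩ := Finset.mem_image.1 hW
    have e : (sing.filter fun v => (v.1 : V) ∈ N w).card + 1 = level (Q.comp (N w).subtype) 0 := by
      rw [← e1, hsing, Finset.filter_filter, ← Fintype.card_subtype, ← Nat.card_eq_fintype_card]
      congr 1
      exact Nat.card_congr
        { toFun := fun v => ⟨v.1.1, v.2.2, fun e => v.1.2 (Subtype.ext e), v.2.1⟩
          invFun := fun x => ⟨⟨⟨x.1, (hN w).1 x.2.1⟩, fun e => x.2.2.1 (congrArg Subtype.val e)⟩,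
            x.2.2.2, x.2.1⟩
          left_inv := fun _ => rfl
          right_inv := fun _ => rfl }
    have e2 := level_zero_eq (Q := Q.comp (N w).subtype) hs
    rw [hWd, if_pos ⟨h, hh⟩, ← hq] at e2
    rw [show ((((sing.filter fun v => (v.1 : V) ∈ N w).card : ℕ) : ℤ) + 1) =
      (((sing.filter fun v => (v.1 : V) ∈ N w).card + 1 : ℕ) : ℤ) by push_cast; ring, e, e2]
    ring
  have s1 : (Fintype.card Nz : ℤ) = 𝒩.card * ((q : ℤ) ^ i - 1) := by
    rw [← Finset.card_univ, Finset.card_eq_sum_card_fiberwise (t := 𝒩) fun v _ =>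
      Finset.mem_image_of_mem N (Finset.mem_univ v), Nat.cast_sum,
      Finset.sum_congr rfl fun W hW => by rw [hfib _ W hW, fib1 W hW], Finset.sum_const, nsmul_eq_mul]
  have s2 : (q : ℤ) * (sing.card : ℤ) =
      𝒩.card * ((q : ℤ) ^ i - ((q : ℤ) - 1) * (q : ℤ) ^ h' - q) := by
    rw [Finset.card_eq_sum_card_fiberwise (t := 𝒩) fun v _ =>
      Finset.mem_image_of_mem N (Finset.mem_univ v), Nat.cast_sum, Finset.mul_sum,
      Finset.sum_congr rfl fun W hW => by
        rw [hfib _ W hW, show (q : ℤ) * ((sing.filter fun v => (v.1 : V) ∈ W).card : ℤ) =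
          (q : ℤ) ^ i - ((q : ℤ) - 1) * (q : ℤ) ^ h' - q by linear_combination fib2 W hW],
      Finset.sum_const, nsmul_eq_mul]
  have hi' : i = h' + h' := by omega
  have hcard : (𝒩.card : ℤ) = (q : ℤ) ^ i + 1 := by
    have hne : (q : ℤ) ^ i - 1 ≠ 0 := by
      have := one_lt_pow₀ hq1 S.i_pos.ne'
      linarith
    refine mul_right_cancel₀ hne ?_
    rw [← s1, tot1, two_mul, pow_add]
    ring
  rw [hcard] at s2
  rw [hi', two_mul, pow_add _ (h' + h'), pow_add] at tot2
  rw [hi', pow_add] at s2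
  have hx : (0 : ℤ) < (q : ℤ) ^ h' := pow_pos (by linarith) _
  nlinarith [mul_pos (sub_pos.2 hq1) (mul_pos hx (mul_pos hx hx)), mul_pos (sub_pos.2 hq1) hx,
    mul_pos (sub_pos.2 hq1) (mul_pos hx hx)]

/-- With few factors, two blocks share one. -/
theorem exists_pair (hg : g ^ r = 1) (hi : Even i) : ∀ (n : ℕ) (G : F[X]) (U : Submodule F V) (s : ℕ),
    G.natDegree = n → G ≠ 0 → n < s * i → NDOn Q U → (∀ x ∈ U, g.1 x ∈ U) →
    (∀ x ∈ U, g.1 x = x → x = 0) → Module.finrank F U = s * i →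
    (∀ x ∈ U, aeval (toEnd Q g) G x = 0) →
    ∃ H N, H ≤ U ∧ (∀ x ∈ H, g.1 x ∈ H) ∧ NDOn Q H ∧ Module.finrank F H = 2 * i ∧ N ≤ H ∧
      (∀ x ∈ N, g.1 x ∈ N) ∧ (∀ x ∈ N, Q x = 0) ∧ Module.finrank F N = i := by
  have hc : c = i := by rw [S.hc, if_pos hi]
  intro n
  induction n using Nat.strong_induction_on with
  | _ n ih =>
    intro G U s hn hG hlt hU hinv hfix hd hkill
    obtain ⟨v, hvU, hv⟩ : ∃ v ∈ U, v ≠ 0 := (Submodule.ne_bot_iff U).1 fun e => by
      rw [e, finrank_bot] at hd; omega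
    have hnu : ¬ IsUnit G := fun hu => by
      obtain ⟨a, ha, rfl⟩ := Polynomial.isUnit_iff.1 hu
      have e := hkill v hvU
      rw [aeval_C, Module.algebraMap_end_apply, smul_eq_zero] at e
      exact hv (e.resolve_left ha.ne_zero)
    obtain ⟨P, hP, A, rfl⟩ := WfDvdMonoid.exists_irreducible_factor hnu hG
    have hA0 : A ≠ 0 := right_ne_zero_of_mul hG
    have hdeg := natDegree_mul hP.ne_zero hA0
    have hpos := hP.natDegree_pos
    obtain ⟨hK, hKi⟩ := component S hg hi hU hinv hP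
    set K := U ⊓ LinearMap.ker (aeval (toEnd Q g) P) with hKdef
    obtain ⟨t, ht, -⟩ := fpf_sign_on S hK hg hKi (fun x hx => hfix x hx.1)
    rw [hc] at ht
    by_cases ht2 : 2 ≤ t
    · obtain ⟨H, hHK, hHi, hH, hHd, -⟩ := exists_blocks S hg 2 t K hK hKi (fun x hx => hfix x hx.1)
        (by rw [hc, ht]) ht2
      rw [hc] at hHd
      obtain ⟨N, hN⟩ := pair S hg hi hH hHi (fun x hx => hfix x (hHK hx).1) hP
        (fun x hx => (hHK hx).2) hHd
      exact ⟨H, N, hHK.trans inf_le_left, hHi, hH, hHd, hN⟩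
    · obtain ⟨hn', hdim, -⟩ := hU.inf_perp hK inf_le_left
      rw [ht] at hdim
      have hkill' : ∀ x ∈ U ⊓ perp Q K, aeval (toEnd Q g) A x = 0 := fun x hx => by
        have e := hkill x hx.1
        rw [map_mul, Module.End.mul_apply] at e
        exact Submodule.disjoint_def.1 hK.disjoint _ ⟨aeval_mem (f := toEnd Q g) hinv A x hx.1, e⟩
          (aeval_mem (f := toEnd Q g) (perp_invariant hKi) A x hx.2)
      rcases Nat.eq_zero_or_pos t with rfl | ht1
      · rw [zero_mul] at ht hdim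
        obtain ⟨H, N, h1, h⟩ := ih A.natDegree (by omega) A (U ⊓ perp Q K) s rfl hA0 (by omega) hn'
          (fun x hx => ⟨hinv x hx.1, perp_invariant hKi x hx.2⟩) (fun x hx => hfix x hx.1) (by omega) hkill'
        exact ⟨H, N, h1.trans inf_le_left, h⟩
      obtain rfl : t = 1 := by omega
      rw [one_mul] at ht hdim
      have hPi : P.natDegree = i := by
        obtain ⟨w, hw, hw0⟩ : ∃ w ∈ K, w ≠ 0 := (Submodule.ne_bot_iff K).1 fun e => by
          rw [e, finrank_bot] at ht; have := S.i_pos; omega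
        exact (cyclic S hg hinv hfix hP hw.1 hw0 hw.2).1
      obtain ⟨s', rfl⟩ : ∃ s', s = s' + 1 := ⟨s - 1, by rcases s with _ | s <;> simp_all⟩
      rw [Nat.succ_mul] at hlt hd
      obtain ⟨H, N, h1, h⟩ := ih A.natDegree (by omega) A (U ⊓ perp Q K) s' rfl hA0 (by omega) hn'
        (fun x hx => ⟨hinv x hx.1, perp_invariant hKi x hx.2⟩) (fun x hx => hfix x hx.1) (by omega) hkill'
      exact ⟨H, N, h1.trans inf_le_left, h⟩

omit S in
theorem natDegree_geom (hr : 0 < r) :
    (∑ j ∈ Finset.range r, (X : F[X]) ^ j) ≠ 0 ∧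
      (∑ j ∈ Finset.range r, (X : F[X]) ^ j).natDegree = r - 1 := by
  obtain ⟨r, rfl⟩ := Nat.exists_eq_add_of_lt hr
  rw [zero_add]
  have hne : (∑ j ∈ Finset.range (r + 1), (X : F[X]) ^ j) ≠ 0 := fun e => by
    have := congrArg (fun p => coeff p r) e
    simp [finset_sum_coeff, coeff_X_pow] at this
  refine ⟨hne, natDegree_eq_of_le_of_coeff_ne_zero ?_ ?_⟩
  · exact natDegree_sum_le_of_forall_le _ _ fun j hj => by
      rw [natDegree_X_pow]; exact Nat.lt_succ_iff.1 (Finset.mem_range.1 hj)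
  · simp [finset_sum_coeff, coeff_X_pow]

omit S in
/-- Totally singular pieces in orthogonal summands add up. -/
theorem ts_sup {H N T : Submodule F V} (hH : NDOn Q H) (hN : N ≤ H) (hT : T ≤ perp Q H)
    (hN0 : ∀ x ∈ N, Q x = 0) (hT0 : ∀ x ∈ T, Q x = 0) (hNi : ∀ x ∈ N, g.1 x ∈ N)
    (hTi : ∀ x ∈ T, g.1 x ∈ T) :
    (∀ x ∈ N ⊔ T, Q x = 0) ∧ (∀ x ∈ N ⊔ T, g.1 x ∈ N ⊔ T) ∧
      Module.finrank F ↥(N ⊔ T) = Module.finrank F N + Module.finrank F T := by
  refine ⟨fun x hx => ?_, fun x hx => ?_, finrank_sup_of_disjoint (hH.disjoint.mono hN hT)⟩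
  · obtain ⟨a, ha, y, hy, rfl⟩ := Submodule.mem_sup.1 hx
    rw [form_add, hN0 a ha, hT0 y hy, mem_perp.1 (hT hy) a (hN ha)]
    ring
  · obtain ⟨a, ha, y, hy, rfl⟩ := Submodule.mem_sup.1 hx
    rw [map_add]
    exact Submodule.add_mem_sup (hNi a ha) (hTi y hy)

/-- What the moved part guarantees. -/
theorem exists_ts_moved (hg : g ^ r = 1) : ∀ (k s : ℕ) (U : Submodule F V), NDOn Q U →
    (∀ x ∈ U, g.1 x ∈ U) → (∀ x ∈ U, g.1 x = x → x = 0) → Module.finrank F U = s * c →
    k ≤ (if Even i then (s + 1 - (r - 1) / i) / 2 else s) →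
    ∃ T, T ≤ U ∧ (∀ x ∈ T, g.1 x ∈ T) ∧ (∀ x ∈ T, Q x = 0) ∧ Module.finrank F T = k * i := by
  intro k
  induction k with
  | zero =>
    intro s U _ _ _ _ _
    exact ⟨⊥, bot_le, fun x hx => by rw [(Submodule.mem_bot F).1 hx, map_zero]; exact zero_mem _,
      fun x hx => by rw [(Submodule.mem_bot F).1 hx, QuadraticMap.map_zero], by rw [finrank_bot, zero_mul]⟩
  | succ k ih =>
    intro s U hU hinv hfix hd hk
    obtain ⟨hgeo, hgd⟩ := natDegree_geom (F := F) S.prime.pos
    obtain ⟨H, N, s', hHU, hHi, hH, hHd, hNH, hNi, hN0, hNd, hk'⟩ : ∃ (H N : Submodule F V) (s' : ℕ),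
        H ≤ U ∧ (∀ x ∈ H, g.1 x ∈ H) ∧ NDOn Q H ∧ Module.finrank F H + s' * c = s * c ∧ N ≤ H ∧
        (∀ x ∈ N, g.1 x ∈ N) ∧ (∀ x ∈ N, Q x = 0) ∧ Module.finrank F N = i ∧
        k ≤ (if Even i then (s' + 1 - (r - 1) / i) / 2 else s') := by
      by_cases hi : Even i
      · rw [if_pos hi] at hk
        have hc : c = i := by rw [S.hc, if_pos hi]
        have hti : (r - 1) / i * i = r - 1 := Nat.div_mul_cancel S.i_dvd_pred
        have hts : (r - 1) / i * i < s * i := Nat.mul_lt_mul_of_pos_right (by omega) S.i_pos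
        obtain ⟨H, N, h1, h2, h3, h4, h5, h6, h7, h8⟩ := exists_pair S hg hi _ _ U s hgd hgeo
          (by omega) hU hinv hfix (by rw [hd, hc]) (geom_kills hg hinv hfix)
        refine ⟨H, N, s - 2, h1, h2, h3, ?_, h5, h6, h7, h8, by rw [if_pos hi]; omega⟩
        have h9 := Submodule.finrank_mono h1
        rw [hd, h4, hc] at h9
        rw [h4, hc, Nat.sub_mul]
        omega
      · rw [if_neg hi] at hk
        obtain ⟨B, hBU, hBi, hB, hBd, -⟩ := exists_blocks S hg 1 s U hU hinv hfix hd (by omega)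
        rw [one_mul] at hBd
        obtain ⟨v, hvB, hv⟩ : ∃ v ∈ B, v ≠ 0 := (Submodule.ne_bot_iff B).1 fun e => by
          rw [e, finrank_bot] at hBd; exact S.c_pos.ne hBd
        obtain ⟨P, A, hP, hA, hPA⟩ := exists_killed (g := g) _ _ hgeo rfl v hv
          (geom_kills hg hBi (fun x hx => hfix x (hBU hx)) v hvB)
        obtain ⟨-, N, hNB, -, hNi, hNd, -⟩ := cyclic S hg hBi (fun x hx => hfix x (hBU hx)) hP
          (aeval_mem (f := toEnd Q g) hBi A v hvB) hA hPA
        rcases ndOn_or_ts S hg hNi (fun x hx => hfix x (hBU (hNB hx))) hNd with hn | ⟨-, hts⟩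
        · exact absurd hn (not_ndOn_of_odd S hg hi hNi (fun x hx => hfix x (hBU (hNB hx))) hNd)
        refine ⟨B, N, s - 1, hBU, hBi, hB, ?_, hNB, hNi, hts, hNd, by rw [if_neg hi]; omega⟩
        rw [hBd, Nat.sub_one_mul]
        have := Nat.le_mul_of_pos_left c (show 0 < s by omega)
        omega
    obtain ⟨hn', hdim, -⟩ := hU.inf_perp hH hHU
    obtain ⟨T, hTU, hTi, hT0, hTd⟩ := ih s' _ hn' (fun x hx => ⟨hinv x hx.1, perp_invariant hHi x hx.2⟩)
      (fun x hx => hfix x hx.1) (by omega) hk'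
    obtain ⟨h1, h2, h3⟩ := ts_sup hH hNH (hTU.trans inf_le_right) hN0 hT0 hNi hTi
    exact ⟨N ⊔ T, sup_le (hNH.trans hHU) (hTU.trans inf_le_left), h2, h1, by
      rw [h3, hNd, hTd, Nat.succ_mul]; ring⟩

end Cfsg.Agent.OrthFix.TS
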