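import Cfsg.Agent.OrthFix.TS.Two
import Cfsg.Agent.OrthFix.Rows

/-!
Glue for the statements on totally singular subspaces.
-/

set_option autoImplicit false
set_option linter.unusedSectionVars false

namespace Cfsg.Agent.OrthFix.TS

open QuadraticMap
open Cfsg.Agent.UnitaryOrthogonal (PolarND orth)

universe u

variable {F : Type u} [Field F] [Fintype F] {ι : Type} [Fintype ι] [DecidableEq ι]
  {Q : QuadraticForm F (ι → F)} {f : (ι → F) → F}

theorem exists_and_assoc {α : Type*} {A B C : α → Prop} :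
    (∃ W, A W ∧ B W ∧ C W) ↔ ∃ W, (A W ∧ B W) ∧ C W := exists_congr fun _ => and_assoc.symm

theorem congr_form (hf : ⇑Q = f) (m : ℕ) (r : ℕ) :
    ((∀ g : orth Q, g ^ r = 1 → g ≠ 1 →
      ∃ W : Submodule F (ι → F), (Module.finrank F W = m ∧ ∀ w ∈ W, f w = 0) ∧ ∀ x ∈ W, g.1 x ∈ W) ↔
    ∀ g : orth Q, g ^ r = 1 → g ≠ 1 →
      ∃ W : Submodule F (ι → F), (Module.finrank F W = m ∧ ∀ w ∈ W, Q w = 0) ∧ ∀ x ∈ W, g.1 x ∈ W) := by
  subst hf; rfl

theorem card_form (hf : ⇑Q = f) (m : ℕ) :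
    Nat.card {W : Submodule F (ι → F) // Module.finrank F W = m ∧ (∀ w ∈ W, f w = 0)} = tsCard Q m := by
  subst hf; rfl

/-- The divisibility excludes the trivial small case. -/
theorem small_excluded {r i c : ℕ} {b : ℤ} (S : Setup F r i c b) (hQ : PolarND Q) {εV εC : ℤ}
    (hs : Sig Q εV) {n T C m : ℕ} (hn : Module.finrank F (ι → F) = n) (hT : TopC c b C εC)
    (hnT : n = T * c + C) (hV : εV = εC * b ^ T) (hdvd : r ∣ tsCard Q m) : ¬ (m < i ∧ TSok C εC m) :=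
  fun ⟨h1, h2⟩ => card_mod_order S m hQ hs h1 hT.le hT.full (hn.trans hnT) hV h2
    ((ZMod.natCast_eq_zero_iff _ _).2 hdvd)

theorem not_dvd_char {p : ℕ} [Fact p.Prime] [CharP F p] (hQ : PolarND Q) {εV : ℤ} (hs : Sig Q εV)
    {n m : ℕ} (hn : Module.finrank F (ι → F) = n) (hm : 2 * m < n) : ¬ p ∣ tsCard Q m := fun h => by
  have e := card_mod_char (p := p) m hQ hs (by omega)
  rw [(ZMod.natCast_eq_zero_iff _ _).2 h] at e
  exact zero_ne_one e

end Cfsg.Agent.OrthFix.TS
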