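import Cfsg.Agent.OrthFix.TS.Crit
import Cfsg.Agent.OrthFix.ScalarTwo

/-!
Elements of order two modulo scalars and totally singular subspaces, in odd characteristic.
-/

set_option autoImplicit false
set_option linter.unusedSectionVars false
set_option linter.style.haveILetI false

namespace Cfsg.Agent.OrthFix.TS

open QuadraticMap
open Cfsg.Agent.UnitaryOrthogonal (PolarND orth rf sqForm polar_self_eq form_add form_smul isometryGroupEquiv)

universe u v

variable {F : Type u} [Field F] [Fintype F]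

section general

variable {V : Type v} [AddCommGroup V] [Module F V] [FiniteDimensional F V] [Finite V]
  {Q : QuadraticForm F V}

/-- A vector of non-zero value spans a line of sign its character. -/
theorem line (h2 : (2 : F) ≠ 0) {w : V} (hw : Q w ≠ 0) :
    NDOn Q (Submodule.span F {w}) ∧ SigOn Q (Submodule.span F {w}) (chi (Q w)) ∧
      Module.finrank F (Submodule.span F {w}) = 1 := by
  have hw0 : w ≠ 0 := fun e => hw (by rw [e, QuadraticMap.map_zero])
  obtain ⟨a, b, c⟩ := exists_sub_aux (Q := Q) (polarND_smul_sqForm h2 hw) (sig_smul_sqForm h2 hw)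
    (LinearMap.toSpanSingleton F V w) (smul_left_injective F hw0) fun x => by
      rw [LinearMap.toSpanSingleton_apply, form_smul]
      simp
      ring
  rw [LinearMap.range_toSpanSingleton] at a b c
  exact ⟨a, b, c.trans (Module.finrank_self F)⟩

/-- The negative eigenspace is a product of reflections. -/
theorem neg_struct (h2 : (2 : F) ≠ 0) : ∀ (n : ℕ) (U : Submodule F V), Module.finrank F U = n → NDOn Q U →
    ∃ vs : List V, (∀ v ∈ vs, v ∈ U ∧ Q v ≠ 0) ∧ vs.length = n ∧
      SigOn Q U (chi (-1 : F) ^ (n / 2) * chi (vs.map fun v => Q v).prod) ∧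
      ∀ x ∈ U, ((vs.map (rf Q)).prod).1 x = -x := by
  intro n
  induction n with
  | zero =>
    intro U hn _
    have hbot : U = ⊥ := Submodule.finrank_eq_zero.1 hn
    subst hbot
    exact ⟨[], by simp, rfl, by simpa using sigOn_bot, fun x hx => by rw [(Submodule.mem_bot F).1 hx]; simp⟩
  | succ n ih =>
    intro U hn hU
    obtain ⟨w, hwU, hw⟩ := exists_mem_form_ne_zero hU (by omega)
    obtain ⟨hL, hLs, hLd⟩ := line h2 hw
    have hLU : Submodule.span F {w} ≤ U := (Submodule.span_singleton_le_iff_mem _ _).2 hwU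
    have hwL := Submodule.mem_span_singleton_self (R := F) w
    obtain ⟨hn', hdim, -⟩ := hU.inf_perp hL hLU
    obtain ⟨vs, hvs, hlen, hs, hact⟩ := ih _ (by omega) hn'
    obtain ⟨hd, hsum⟩ := hL.isCompl_within hLU
    have hU' := (hL.sup hn' inf_le_right).2.2.2 _ _ hLs hs
    rw [hsum, hLd, show Module.finrank F ↥(U ⊓ perp Q (Submodule.span F {w})) = n by omega] at hU'
    refine ⟨w :: vs, ?_, by simp [hlen], ?_, fun x hx => ?_⟩
    · intro v hv
      rcases List.mem_cons.1 hv with rfl | hv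
      · exact ⟨hwU, hw⟩
      · exact ⟨(hvs v hv).1.1, (hvs v hv).2⟩
    · rw [List.map_cons, List.prod_cons, chi_mul]
      refine (show chi (-1 : F) ^ ((n + 1) / 2) * (chi (Q w) * chi (vs.map fun v => Q v).prod) =
        chi (Q w) * (chi (-1 : F) ^ (n / 2) * chi (vs.map fun v => Q v).prod) * sig F 1 n from ?_) ▸ hU'
      rcases Nat.even_or_odd n with ⟨k, hk⟩ | ⟨k, hk⟩
      · rw [sig_even_right ⟨k, hk⟩, show (n + 1) / 2 = n / 2 by omega]; ring
      · rw [show sig F 1 n = chi (-1 : F) from if_pos ⟨odd_one, ⟨k, hk⟩⟩,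
          show (n + 1) / 2 = n / 2 + 1 by omega, pow_succ]
        ring
    · rw [← hsum] at hx
      obtain ⟨a, ha, y, hy, rfl⟩ := Submodule.mem_sup.1 hx
      have hvsa : ((vs.map (rf Q)).prod).1 a = a := by
        clear hlen hs hact hU'
        induction vs with
        | nil => rfl
        | cons v vs ihv =>
          rw [List.map_cons, List.prod_cons, UnitaryOrthogonal.coe_mul_apply,
            ihv fun u hu => hvs u (List.mem_cons_of_mem _ hu)]
          exact UnitaryOrthogonal.rf_apply_of_polar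
            ((polar_comm Q v a).trans (mem_perp.1 (hvs v (by simp)).1.2 a ha))
      have hwy : (rf Q w).1 (-y) = -y :=
        UnitaryOrthogonal.rf_apply_of_polar (mem_perp.1 ((perp Q _).neg_mem hy.2) w hwL)
      obtain ⟨s, rfl⟩ := Submodule.mem_span_singleton.1 ha
      rw [List.map_cons, List.prod_cons, UnitaryOrthogonal.coe_mul_apply, map_add, hvsa, hact y hy, map_add,
        hwy, map_smul, UnitaryOrthogonal.rf_apply_self hw, smul_neg, neg_add]

/-- An involution with negative eigenspace `B`. -/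
theorem exists_invol (h2 : (2 : F) ≠ 0) {B : Submodule F V} (hB : NDOn Q B) :
    ∃ g : orth Q, g ^ 2 = 1 ∧ mvS g = B := by
  let n : orth (Q.comp B.subtype) := ⟨LinearEquiv.neg F, fun x => QuadraticMap.map_neg _ x⟩
  have hk : ∀ x ∈ B, (glue hB n).1 x = -x := fun x hx => by rw [glue_of_mem hB n hx]; rfl
  have hn : n ^ 2 = 1 := UnitaryOrthogonal.orth_ext fun x => by
    rw [pow_two]; exact neg_neg x
  refine ⟨glue hB n, by rw [← map_pow, hn, map_one], mvS_eq hB (fun x hx => ?_) (fun x hx e => ?_)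
    fun x hx => glue_of_perp hB n hx⟩
  · rw [hk x hx]; exact B.neg_mem hx
  · rw [hk x hx] at e
    have h3 : (2 : F) • x = 0 := by rw [two_smul]; nth_rewrite 1 [← e]; rw [neg_add_cancel]
    exact (smul_eq_zero.1 h3).resolve_left h2

/-- Totally singular invariant subspaces of an involution. -/
theorem invol_exists (hQ : PolarND Q) (h2 : (2 : F) ≠ 0) {g : orth Q} (hg : g ^ 2 = 1) {ε₀ ε₁ : ℤ}
    (h0 : SigOn Q (fixS g) ε₀) (h1 : SigOn Q (mvS g) ε₁) {a k : ℕ}
    (ha : TSok (Module.finrank F (fixS g)) ε₀ a) (hk : TSok (Module.finrank F (mvS g)) ε₁ k) :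
    ∃ W : Submodule F V, (Module.finrank F W = a + k ∧ ∀ w ∈ W, Q w = 0) ∧ ∀ x ∈ W, g.1 x ∈ W := by
  obtain ⟨hA, hB, ho, -, -⟩ := eigen_split hQ h2 hg
  obtain ⟨T₀, hT₀, hT₀0, hT₀d⟩ := exists_ts hA h0 ha
  obtain ⟨T₁, hT₁, hT₁0, hT₁d⟩ := exists_ts hB h1 hk
  obtain ⟨e1, e2, e3⟩ := ts_sup hA hT₀ (hT₁.trans ho) hT₀0 hT₁0
    (fun x hx => by rw [mem_fixS.1 (hT₀ hx)]; exact hx)
    (fun x hx => by rw [apply_mvS_invol hg (hT₁ hx)]; exact T₁.neg_mem hx)
  exact ⟨T₀ ⊔ T₁, ⟨by rw [e3, hT₀d, hT₁d], e1⟩, e2⟩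

theorem invol_bound (hQ : PolarND Q) (h2 : (2 : F) ≠ 0) {g : orth Q} (hg : g ^ 2 = 1) {ε₀ ε₁ : ℤ}
    (h0 : SigOn Q (fixS g) ε₀) (h1 : SigOn Q (mvS g) ε₁) {W : Submodule F V} (hW : ∀ w ∈ W, Q w = 0)
    (hinv : ∀ x ∈ W, g.1 x ∈ W) :
    ∃ a k, Module.finrank F W = a + k ∧ TSok (Module.finrank F (fixS g)) ε₀ a ∧
      TSok (Module.finrank F (mvS g)) ε₁ k := by
  obtain ⟨hA, hB, ho, -, -⟩ := eigen_split hQ h2 hg
  have hz : ∀ {y : V} {k : orth Q}, k ^ 2 = 1 → y ∈ mvS k → k.1 y = y → y = 0 := fun hk hy he =>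
    eq_zero_of_mem hk (by exact_mod_cast h2) hy he
  exact ⟨_, _, finrank_eq_add hz hg hinv,
    tsok_of_ts hA h0 (inf_le_right : W ⊓ fixS g ≤ _) (fun x hx => hW x hx.1),
    tsok_of_ts hB h1 (inf_le_right : W ⊓ mvS g ≤ _) (fun x hx => hW x hx.1)⟩

/-- An invariant subspace of an isometry with square `-1` is even when `-1` is not a square. -/
theorem even_of_imag (hns : ¬ IsSquare (-1 : F)) {g : orth Q} {W : Submodule F V}
    (hinv : ∀ x ∈ W, g.1 x ∈ W) (hsq : ∀ x ∈ W, g.1 (g.1 x) = -x) : Even (Module.finrank F W) := by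
  by_contra h
  refine hns ⟨LinearMap.det (g.1.toLinearMap.restrict hinv), ?_⟩
  have e : g.1.toLinearMap.restrict hinv * g.1.toLinearMap.restrict hinv = (-1 : F) • LinearMap.id := by
    refine LinearMap.ext fun x => Subtype.ext ?_
    show g.1 (g.1 (x : V)) = (-1 : F) • (x : V)
    rw [hsq x x.2, neg_one_smul]
  rw [← map_mul, e, LinearMap.det_smul, LinearMap.det_id, mul_one, (Nat.not_even_iff_odd.1 h).neg_one_pow]

/-- Invariant totally singular subspaces of even dimension, when `-1` is not a square. -/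
theorem imag_ts (h2 : (2 : F) ≠ 0) (hns : ¬ IsSquare (-1 : F)) (g : orth Q) : ∀ (k : ℕ) (U : Submodule F V),
    NDOn Q U → (∀ x ∈ U, g.1 x ∈ U) → (∀ x ∈ U, g.1 (g.1 x) = -x) → 4 * k ≤ Module.finrank F U →
    ∃ T, T ≤ U ∧ (∀ x ∈ T, g.1 x ∈ T) ∧ (∀ x ∈ T, Q x = 0) ∧ Module.finrank F T = 2 * k := by
  intro k
  induction k with
  | zero =>
    intro U _ _ _ _
    exact ⟨⊥, bot_le, fun x hx => by rw [(Submodule.mem_bot F).1 hx, map_zero]; exact zero_mem _,
      fun x hx => by rw [(Submodule.mem_bot F).1 hx, QuadraticMap.map_zero], by rw [finrank_bot]⟩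
  | succ k ih =>
    intro U hU hinv hsq hle
    obtain ⟨εU, hεU⟩ := exists_sig hU
    obtain ⟨T₁, hT₁U, hT₁0, hT₁d⟩ := exists_ts hU hεU (m := 1) (Or.inl (by omega))
    obtain ⟨w, hwT, hw0⟩ : ∃ w ∈ T₁, w ≠ 0 := (Submodule.ne_bot_iff T₁).1 fun e => by
      rw [e, finrank_bot] at hT₁d; omega
    have hwU := hT₁U hwT
    have hw : Q w = 0 := hT₁0 w hwT
    have hwv : polar Q w (g.1 w) = 0 := polar_apply_self h2 (hsq w hwU)
    set T := Submodule.span F ({w, g.1 w} : Set V) with hT
    have hTU : T ≤ U := Submodule.span_le.2 (by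
      intro x hx
      simp only [Set.mem_insert_iff, Set.mem_singleton_iff] at hx
      rcases hx with rfl | rfl
      · exact hwU
      · exact hinv w hwU)
    have hTi : ∀ x ∈ T, g.1 x ∈ T := fun x hx => by
      obtain ⟨a, b, rfl⟩ := Submodule.mem_span_pair.1 hx
      rw [map_add, map_smul, map_smul, hsq w hwU]
      exact T.add_mem (T.smul_mem _ (Submodule.subset_span (by simp)))
        (T.smul_mem _ (T.neg_mem (Submodule.subset_span (by simp))))
    have hT0 : ∀ x ∈ T, Q x = 0 := fun x hx => by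
      obtain ⟨a, b, rfl⟩ := Submodule.mem_span_pair.1 hx
      rw [form_add, form_smul, form_smul, polar_smul_left, polar_smul_right, hw,
        UnitaryOrthogonal.map_form, hw, hwv, smul_zero, smul_zero]
      ring
    have hli : LinearIndependent F ![w, g.1 w] := LinearIndependent.pair_iff.2 fun a b hab => by
      have e := congrArg g.1 hab
      rw [map_add, map_smul, map_smul, hsq w hwU, map_zero] at e
      have h3 : (a * a + b * b) • w = 0 := by linear_combination (norm := module) a • hab - b • e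
      have h4 := (smul_eq_zero.1 h3).resolve_right hw0
      have hb : b = 0 := by
        by_contra hb
        exact hns ⟨a / b, by field_simp; linear_combination -h4⟩
      rw [hb, mul_zero, add_zero] at h4
      exact ⟨mul_self_eq_zero.1 h4, hb⟩
    have hTd : Module.finrank F T = 2 := by
      rw [hT, show ({w, g.1 w} : Set V) = Set.range ![w, g.1 w] by simp [Matrix.range_cons, Set.pair_comm],
        finrank_span_eq_card hli, Fintype.card_fin]
    -- a vector dual to `w`
    obtain ⟨u, huU, hu⟩ : ∃ u ∈ U, polar Q w u = 1 := by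
      obtain ⟨u, huU, hu⟩ : ∃ u ∈ U, polar Q w u ≠ 0 := by
        by_contra hc
        push Not at hc
        exact hw0 (ndOn_iff.1 hU w hwU hc)
      exact ⟨(polar Q w u)⁻¹ • u, U.smul_mem _ huU, by rw [polar_smul_right, smul_eq_mul, inv_mul_cancel₀ hu]⟩
    set α := polar Q w (g.1 u) with hα
    have e1 : polar Q (g.1 w) (g.1 u) = 1 := by rw [UnitaryOrthogonal.map_polar, hu]
    have e2 : polar Q (g.1 w) u = -α := by
      have h := UnitaryOrthogonal.map_polar g (g.1 w) u
      rw [hsq w hwU, polar_neg_left, ← hα] at h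
      exact h.symm
    set H := Submodule.span F ({w, g.1 w, u, g.1 u} : Set V) with hH
    have hHU : H ≤ U := Submodule.span_le.2 (by
      intro x hx
      simp only [Set.mem_insert_iff, Set.mem_singleton_iff] at hx
      rcases hx with rfl | rfl | rfl | rfl
      · exact hwU
      · exact hinv w hwU
      · exact huU
      · exact hinv u huU)
    have hdec : ∀ x ∈ H, ∃ a b c d : F, x = a • w + b • g.1 w + (c • u + d • g.1 u) := by
      intro x hx
      rw [hH, Submodule.mem_span_insert] at hx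
      obtain ⟨a, y, hy, rfl⟩ := hx
      rw [Submodule.mem_span_insert] at hy
      obtain ⟨b, z, hz, rfl⟩ := hy
      obtain ⟨c, d, rfl⟩ := Submodule.mem_span_pair.1 hz
      exact ⟨a, b, c, d, by abel⟩
    have hHi : ∀ x ∈ H, g.1 x ∈ H := fun x hx => by
      obtain ⟨a, b, c, d, rfl⟩ := hdec x hx
      simp only [map_add, map_smul, hsq w hwU, hsq u huU]
      exact H.add_mem (H.add_mem (H.smul_mem _ (Submodule.subset_span (by simp)))
        (H.smul_mem _ (H.neg_mem (Submodule.subset_span (by simp)))))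
        (H.add_mem (H.smul_mem _ (Submodule.subset_span (by simp)))
          (H.smul_mem _ (H.neg_mem (Submodule.subset_span (by simp)))))
    have hww : polar Q w w = 0 := by rw [polar_self_eq, hw, mul_zero]
    have hvv : polar Q (g.1 w) (g.1 w) = 0 := by rw [UnitaryOrthogonal.map_polar, hww]
    have hsol : ∀ c d : F, c + d * α = 0 → d - c * α = 0 → c = 0 ∧ d = 0 := fun c d h3 h4 => by
      have h5 : d * (α * α + 1) = 0 := by linear_combination α * h3 + h4
      have h6 : α * α + 1 ≠ 0 := fun h => hns ⟨α, by linear_combination -h⟩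
      have hd := (mul_eq_zero.1 h5).resolve_right h6
      exact ⟨by rw [hd] at h3; linear_combination h3, hd⟩
    have hHn : NDOn Q H := ndOn_iff.2 fun x hx hxy => by
      obtain ⟨a, b, c, d, rfl⟩ := hdec x hx
      have f1 := hxy w (Submodule.subset_span (by simp))
      have f2 := hxy (g.1 w) (Submodule.subset_span (by simp))
      simp only [polar_add_left, polar_smul_left, smul_eq_mul, hww, polar_comm Q (g.1 w) w, hwv,
        polar_comm Q u w, hu, polar_comm Q (g.1 u) w, ← hα] at f1
      simp only [polar_add_left, polar_smul_left, smul_eq_mul, hwv, hvv,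
        polar_comm Q u (g.1 w), e2, polar_comm Q (g.1 u) (g.1 w), e1] at f2
      obtain ⟨rfl, rfl⟩ := hsol c d (by linear_combination f1) (by linear_combination f2)
      simp only [zero_smul, add_zero] at hxy ⊢
      have f3 := hxy u (Submodule.subset_span (by simp))
      have f4 := hxy (g.1 u) (Submodule.subset_span (by simp))
      simp only [polar_add_left, polar_smul_left, smul_eq_mul, hu, e2] at f3
      simp only [polar_add_left, polar_smul_left, smul_eq_mul, ← hα, e1] at f4
      obtain ⟨rfl, rfl⟩ : a = 0 ∧ b = 0 := by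
        have := hsol a (-b) (by linear_combination f3) (by linear_combination -f4)
        exact ⟨this.1, neg_eq_zero.1 this.2⟩
      simp
    have hHd : Module.finrank F H ≤ 4 := by
      classical
      refine le_trans (le_of_eq ?_) ((finrank_span_finset_le_card (R := F) ({w, g.1 w, u, g.1 u} : Finset V)).trans
        Finset.card_le_four)
      simp only [Finset.coe_insert, Finset.coe_singleton, hH]
      rfl
    obtain ⟨hn', hdim, -⟩ := hU.inf_perp hHn hHU
    obtain ⟨T', hT'U, hT'i, hT'0, hT'd⟩ := ih _ hn' (fun x hx => ⟨hinv x hx.1, perp_invariant hHi x hx.2⟩)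
      (fun x hx => hsq x hx.1) (by omega)
    obtain ⟨r1, r2, r3⟩ := ts_sup hHn (show T ≤ H from Submodule.span_mono (by
      intro x hx
      simp only [Set.mem_insert_iff, Set.mem_singleton_iff] at hx ⊢
      tauto)) (hT'U.trans inf_le_right) hT0 hT'0 hTi hT'i
    exact ⟨T ⊔ T', sup_le hTU (hT'U.trans inf_le_left), r2, r1, by rw [r3, hTd, hT'd]; ring⟩

/-- When `-1 = ι²`, the eigenspaces are totally singular of half the dimension. -/
theorem imag_split (hQ : PolarND Q) (h2 : (2 : F) ≠ 0) {g : orth Q} (hsq : ∀ x, g.1 (g.1 x) = -x) {ι₀ : F}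
    (hι : ι₀ * ι₀ = -1) {d m : ℕ} (hd : Module.finrank F V = 2 * d) (hm : m ≤ d) :
    ∃ W : Submodule F V, (Module.finrank F W = m ∧ ∀ w ∈ W, Q w = 0) ∧ ∀ x ∈ W, g.1 x ∈ W := by
  let E : F → Submodule F V := fun l => LinearMap.ker (g.1.toLinearMap - l • LinearMap.id)
  have hE : ∀ {l x}, x ∈ E l ↔ g.1 x = l • x := fun {l x} => by simp [E, sub_eq_zero]
  have hι2 : (2 : F) * ι₀ ≠ 0 := mul_ne_zero h2 fun h => by simp [h] at hι
  have hts : ∀ l : F, l * l = -1 → ∀ x ∈ E l, Q x = 0 := fun l hl x hx => by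
    have e := UnitaryOrthogonal.map_form g x
    rw [hE.1 hx, form_smul, hl] at e
    exact (mul_eq_zero.1 (show (2 : F) * Q x = 0 by linear_combination -e)).resolve_left h2
  have htop : ∀ x, x ∈ E ι₀ ⊔ E (-ι₀) := fun x => Submodule.mem_sup.2
    ⟨(2 * ι₀)⁻¹ • (g.1 x + ι₀ • x), (E ι₀).smul_mem _ (hE.2 (by
      rw [map_add, map_smul, hsq, smul_add, smul_smul, hι]; module)),
     (2 * ι₀)⁻¹ • -(g.1 x - ι₀ • x), (E (-ι₀)).smul_mem _ (hE.2 (by
      rw [map_neg, map_sub, map_smul, hsq, smul_neg, smul_sub, smul_smul, neg_mul, hι]; module)),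
     by
      rw [← smul_add, show g.1 x + ι₀ • x + -(g.1 x - ι₀ • x) = (2 * ι₀) • x by module,
        inv_smul_smul₀ hι2]⟩
  have hle := Submodule.finrank_add_le_finrank_add_finrank (E ι₀) (E (-ι₀))
  rw [show E ι₀ ⊔ E (-ι₀) = ⊤ from eq_top_iff.2 fun x _ => htop x, finrank_top, hd] at hle
  have b1 := two_mul_ts_le (ndOn_top hQ) (le_top : E (-ι₀) ≤ ⊤) (hts _ (by rw [neg_mul_neg, hι]))
  rw [finrank_top, hd] at b1
  obtain ⟨W, hW, hWd⟩ := exists_le_finrank (T := E ι₀) (h := m) (by omega)
  exact ⟨W, ⟨hWd, fun w hw => hts ι₀ hι w (hW hw)⟩, fun x hx => by rw [hE.1 (hW hx)]; exact W.smul_mem _ hx⟩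

end general

variable {ι : Type} [Fintype ι] [DecidableEq ι] {Q : QuadraticForm F (ι → F)} {f : (ι → F) → F}

/-- When an involution lies in `Ω`. -/
theorem invol_mem_omega_iff (hQ : PolarND Q) (h2 : (2 : F) ≠ 0) (hn : 2 ≤ Fintype.card ι)
    (h : isometryGroup F ⇑Q) (hh : (Forms59.toOrth Q h) ^ 2 = 1) {ε : ℤ}
    (hε : SigOn Q (mvS (Forms59.toOrth Q h)) ε) :
    h ∈ Omega F ⇑Q ↔ Even (Module.finrank F (mvS (Forms59.toOrth Q h))) ∧
      ε = chi (-1 : F) ^ (Module.finrank F (mvS (Forms59.toOrth Q h)) / 2) := by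
  classical
  obtain ⟨hA, hB, ho, htop, -⟩ := eigen_split hQ h2 hh
  obtain ⟨vs, hvs, hlen, hs, hact⟩ := neg_struct h2 _ _ rfl hB
  have hvs' : ∀ v ∈ vs, Q v ≠ 0 := fun v hv => (hvs v hv).2
  have he : h = Forms59.reflProd Q vs := (Forms59.toOrth Q).injective (UnitaryOrthogonal.orth_ext fun x => by
    rw [toOrth_reflProd vs hvs']
    obtain ⟨a, ha, y, hy, rfl⟩ := Submodule.mem_sup.1 (htop ▸ Submodule.mem_top : x ∈ fixS _ ⊔ mvS _)
    have hvsa : ((vs.map (rf Q)).prod).1 a = a := by
      clear hlen hs hact hvs'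
      induction vs with
      | nil => rfl
      | cons v vs ihv =>
        rw [List.map_cons, List.prod_cons, UnitaryOrthogonal.coe_mul_apply,
          ihv fun u hu => hvs u (List.mem_cons_of_mem _ hu)]
        exact UnitaryOrthogonal.rf_apply_of_polar
          ((polar_comm Q v a).trans (mem_perp.1 (ho (hvs v (by simp)).1) a ha))
    rw [map_add, map_add, hvsa, hact y hy, mem_fixS.1 ha, apply_mvS_invol hh hy])
  have hne : (vs.map fun v => Q v).prod ≠ 0 := by
    refine List.prod_ne_zero fun h0 => ?_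
    obtain ⟨v, hv, hv0⟩ := List.mem_map.1 h0
    exact hvs' v hv hv0
  have h1 : h ∈ Omega F ⇑Q ↔ Even vs.length ∧ IsSquare (vs.map fun v => Q v).prod := by
    rw [he]
    exact Forms59.reflProd_mem_omega_iff h2 (nondegenerate_of_polarND hQ) hn vs hvs'
  rw [h1, hlen]
  refine and_congr_right fun _ => ?_
  rw [← quadraticChar_one_iff_isSquare hne, hε.unique hs]
  show chi _ = 1 ↔ _
  constructor
  · intro e; rw [e, mul_one]
  · intro e
    have h3 : chi (-1 : F) ^ (Module.finrank F (mvS (Forms59.toOrth Q h)) / 2) ≠ 0 :=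
      pow_ne_zero _ (by rcases chi_eq_or (F := F) (neg_ne_zero.2 one_ne_zero) with h | h <;> rw [h] <;> decide)
    exact (mul_eq_left₀ h3).1 e

/-- The involution in `Ω` with a given negative eigenspace. -/
theorem exists_omega_invol (hQ : PolarND Q) (h2 : (2 : F) ≠ 0) (hn : 2 ≤ Fintype.card ι)
    {B : Submodule F (ι → F)} (hB : NDOn Q B) (hBd : Module.finrank F B = 2)
    (hBs : SigOn Q B (chi (-1 : F))) :
    ∃ h : isometryGroup F ⇑Q, h ∈ Omega F ⇑Q ∧ Forms59.toOrth Q h ^ 2 = 1 ∧
      mvS (Forms59.toOrth Q h) = B := by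
  obtain ⟨g, hg, hgB⟩ := exists_invol h2 hB
  obtain ⟨h, rfl⟩ := (Forms59.toOrth Q).surjective g
  refine ⟨h, (invol_mem_omega_iff hQ h2 hn h hg (ε := chi (-1 : F)) (hgB ▸ hBs)).2 ?_, hg, hgB⟩
  rw [hgB, hBd]
  exact ⟨even_two, (pow_one _).symm⟩

theorem chi_neg_one_cases (h2 : (2 : F) ≠ 0) :
    (Fintype.card F % 4 = 3 ∧ chi (-1 : F) = -1 ∧ ¬ IsSquare (-1 : F)) ∨
    (Fintype.card F % 4 = 1 ∧ chi (-1 : F) = 1 ∧ IsSquare (-1 : F)) := by
  classical
  have h := chi_neg_one_eq h2
  have hodd : Fintype.card F % 2 = 1 := FiniteField.odd_card_of_char_ne_two (fun e => h2 (by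
    haveI := ringChar.of_eq e; exact CharTwo.two_eq_zero))
  by_cases h3 : Fintype.card F % 4 = 3
  · rw [if_pos h3] at h
    exact Or.inl ⟨h3, h, quadraticChar_neg_one_iff_not_isSquare.1 h⟩
  · rw [if_neg h3] at h
    exact Or.inr ⟨by omega, h, FiniteField.isSquare_neg_one_iff.2 h3⟩

/-- Elements of order two and totally singular subspaces, odd dimension. -/
theorem forall_two_odd_iff (hf : ⇑Q = f) (hQ : PolarND Q) (h2 : (2 : F) ≠ 0) {d : ℕ}
    (hn : Module.finrank F (ι → F) = 2 * d + 1) (hd : 1 ≤ d) (hs : Sig Q 1) {m : ℕ} (hm : m ≤ d) :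
    (∀ x : GL ι F, x ∈ Geo.omegaGL f → orderOf x = 2 →
      ∃ W : Submodule F (ι → F), Module.finrank F W = m ∧ (∀ w ∈ W, f w = 0) ∧
        W.map (Matrix.toLin' (x : Matrix ι ι F)) ≤ W) ↔
    (m < d ∨ Fintype.card F % 4 = 1) := by
  subst hf
  have hcard : 2 ≤ Fintype.card ι := by rw [← Module.finrank_fintype_fun_eq_card F, hn]; omega
  have hchi := chi_neg_one_cases h2
  constructor
  · intro H
    by_contra hcon
    obtain rfl : m = d := by omega
    have hchi' : chi (-1 : F) = -1 := by rcases hchi with h | h <;> omega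
    obtain ⟨B, -, hBd, hB, hBs⟩ := exists_sub (ε := -1) (m := 2) (ndOn_top hQ) (sigOn_top hs)
      ⟨by rw [finrank_top]; omega, Or.inr rfl, fun e => by omega, fun e => by rw [finrank_top] at e; omega,
        fun _ => even_two⟩
    obtain ⟨h, hh, hg, hgB⟩ := exists_omega_invol hQ h2 hcard hB hBd (hchi'.symm ▸ hBs)
    have hne : h ≠ 1 := by
      rintro rfl
      rw [map_one] at hgB
      have h0 : mvS (1 : orth Q) = ⊥ := (Submodule.eq_bot_iff _).2 (by rintro _ ⟨x, rfl⟩; simp)
      rw [h0] at hgB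
      rw [← hgB, finrank_bot] at hBd
      omega
    have hord : orderOf (h : GL ι F) = 2 := by
      rw [Subgroup.orderOf_coe]
      exact orderOf_eq_prime ((Forms59.toOrth Q).injective (by rw [map_pow, hg, map_one])) hne
    obtain ⟨W, hWd, hW, hinv⟩ := H _ ⟨h, hh, rfl⟩ hord
    obtain ⟨hA, -, -, -, hdim⟩ := eigen_split hQ h2 hg
    obtain ⟨ε₀, h0⟩ := exists_sig hA
    obtain ⟨a, k, e, ha, hk⟩ := invol_bound hQ h2 hg h0 (ε₁ := -1) (hgB.symm ▸ hBs) hW
      ((invariant_iff rfl h W).1 hinv)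
    rw [hgB, hBd] at hdim hk
    rw [hn] at hdim
    unfold TSok at ha hk
    omega
  · rintro H _ ⟨h, hh, rfl⟩ hord
    change orderOf (h : GL ι F) = 2 at hord
    rw [Subgroup.orderOf_coe] at hord
    set g := Forms59.toOrth Q h with hgdef
    have hg : g ^ 2 = 1 := by rw [hgdef, ← map_pow, ← hord, pow_orderOf_eq_one, map_one]
    obtain ⟨hA, hB, ho, htop, hdim⟩ := eigen_split hQ h2 hg
    obtain ⟨ε₀, h0⟩ := exists_sig hA
    obtain ⟨ε₁, h1⟩ := exists_sig hB
    obtain ⟨⟨e, he⟩, hε⟩ := (invol_mem_omega_iff hQ h2 hcard h hg h1).1 hh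
    rw [← hgdef] at he hε
    rw [hn] at hdim
    rw [show Module.finrank F (mvS g) / 2 = e by omega] at hε
    have hv := hB.valid h1
    obtain ⟨k, hk, hk'⟩ : ∃ k, TSok (Module.finrank F (mvS g)) ε₁ k ∧ k ≤ m ∧ 2 * (m - k) < Module.finrank F (fixS g) := by
      by_cases hmle : m ≤ d - e
      · refine ⟨0, ?_, Nat.zero_le _, by omega⟩
        rcases Nat.eq_zero_or_pos e with h | h
        · exact Or.inr ⟨by omega, hv.zero (by omega)⟩
        · exact Or.inl (by omega)
      · refine ⟨m - (d - e), ?_, by omega, by omega⟩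
        rcases lt_or_eq_of_le hm with h | h
        · exact Or.inl (by omega)
        · subst h
          rcases H with H | H
          · omega
          · rcases hchi with ⟨h3, -⟩ | ⟨-, hc, -⟩
            · omega
            · exact Or.inr ⟨by omega, by rw [hε, hc, one_pow]⟩
    obtain ⟨W, ⟨hWd, hW⟩, hinv⟩ := invol_exists hQ h2 hg h0 h1 (a := m - k) (k := k) (Or.inl hk'.2) hk
    exact ⟨W, by omega, hW, (invariant_iff rfl h W).2 hinv⟩

/-- Elements of order two modulo scalars and totally singular subspaces, plus type. -/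
theorem forall_two_plus_iff (hf : ⇑Q = f) (hQ : PolarND Q) (h2 : (2 : F) ≠ 0) {d : ℕ}
    (hn : Module.finrank F (ι → F) = 2 * d) (hd : 2 ≤ d) (hs : Sig Q 1) {m : ℕ} (hm1 : 1 ≤ m) (hm : m < d) :
    (∀ x : GL ι F, x ∈ Geo.omegaGL f →
      (∃ z : F, ((x ^ 2 : GL ι F) : Matrix ι ι F) = z • (1 : Matrix ι ι F)) →
      (∀ z : F, (x : Matrix ι ι F) ≠ z • (1 : Matrix ι ι F)) →
      ∃ W : Submodule F (ι → F), Module.finrank F W = m ∧ (∀ w ∈ W, f w = 0) ∧
        W.map (Matrix.toLin' (x : Matrix ι ι F)) ≤ W) ↔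
    (Fintype.card F % 4 = 1 ∨ (Fintype.card F % 4 = 3 ∧ m + 2 ≤ d ∧
      (Even m ∨ Odd d ∨ chi (2 : F) ^ d ≠ 1))) := by
  subst hf
  have htopd : Module.finrank F (⊤ : Submodule F (ι → F)) = 2 * d := by rw [finrank_top, hn]
  have hcard : 2 ≤ Fintype.card ι := by rw [← Module.finrank_fintype_fun_eq_card F, hn]; omega
  obtain ⟨j⟩ : Nonempty ι := Fintype.card_pos_iff.1 (by omega)
  have he : (Pi.single j (1 : F) : ι → F) ≠ 0 := by simp
  obtain ⟨v, hv⟩ := exists_form_ne_zero hQ he
  have hchi := chi_neg_one_cases h2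
  constructor
  · intro H
    rcases hchi with ⟨h3, hc, hns⟩ | ⟨h1, -⟩
    swap
    · exact Or.inl h1
    refine Or.inr ⟨h3, ?_, ?_⟩
    · by_contra hcon
      obtain ⟨B, -, hBd, hB, hBs⟩ := exists_sub (ε := -1) (m := 2) (ndOn_top hQ) (sigOn_top hs)
        ⟨by omega, Or.inr rfl, fun e => by omega, fun e => by omega, fun _ => even_two⟩
      obtain ⟨h, hh, hg, hgB⟩ := exists_omega_invol hQ h2 hcard hB hBd (hc.symm ▸ hBs)
      obtain ⟨hA, -, -, -, hdim⟩ := eigen_split hQ h2 hg
      have hmat : ∀ x, Matrix.toLin' ((h : GL ι F) : Matrix ι ι F) x = (Forms59.toOrth Q h).1 x := fun x => rfl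
      obtain ⟨W, hWd, hW, hinv⟩ := H (h : GL ι F) ⟨h, hh, rfl⟩
        ⟨1, by
          rw [one_smul]
          refine Matrix.toLin'.injective (LinearMap.ext fun x => ?_)
          rw [pow_two, Units.val_mul, Matrix.toLin'_mul, LinearMap.comp_apply, hmat, hmat,
            ← UnitaryOrthogonal.coe_mul_apply, ← pow_two, hg, Matrix.toLin'_one]
          rfl⟩
        (fun z hz => by
          have hz' : ∀ x, (Forms59.toOrth Q h).1 x = z • x := fun x => by
            rw [← hmat, hz, map_smul, Matrix.toLin'_one, LinearMap.smul_apply, LinearMap.id_apply]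
          by_cases hz1 : z = 1
          · have h0 : mvS (Forms59.toOrth Q h) = ⊥ := (Submodule.eq_bot_iff _).2 (by
              rintro _ ⟨x, rfl⟩
              simp [hz', hz1])
            rw [h0] at hgB
            rw [← hgB, finrank_bot] at hBd
            omega
          · have h0 : fixS (Forms59.toOrth Q h) = ⊥ := (Submodule.eq_bot_iff _).2 fun x hx => by
              have e := mem_fixS.1 hx
              rw [hz'] at e
              exact (smul_eq_zero.1 (show (z - 1) • x = 0 by rw [sub_smul, e, one_smul, sub_self])).resolve_left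
                (sub_ne_zero.2 hz1)
            rw [h0, hgB, finrank_bot, hBd, hn] at hdim
            omega)
      obtain ⟨ε₀, h0⟩ := exists_sig hA
      have hs0 : ε₀ = -1 := by
        obtain ⟨-, hB', ho, htop, -⟩ := eigen_split hQ h2 hg
        have := (hA.sup hB' ho).2.2.2 _ _ h0 (hgB.symm ▸ hBs)
        rw [htop, sig_even_right (by rw [hgB, hBd]; exact even_two), mul_one] at this
        have e := (sigOn_top hs).unique this
        linarith
      obtain ⟨a, k, e, ha, hk⟩ := invol_bound hQ h2 hg h0 (ε₁ := -1) (hgB.symm ▸ hBs) hW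
        ((invariant_iff rfl h W).1 hinv)
      rw [hgB, hBd] at hdim hk
      rw [hn] at hdim
      unfold TSok at ha hk
      omega
    · by_contra hcon
      simp only [not_or, not_not] at hcon
      obtain ⟨hmo, hdo, h2d⟩ := hcon
      obtain ⟨g, -, hg2, -⟩ := exists_imag h2 d (ndOn_top hQ) htopd (by
        rw [hc, (Nat.not_odd_iff_even.1 hdo).neg_one_pow]; exact sigOn_top hs)
      obtain ⟨h, rfl⟩ := (Forms59.toOrth Q).surjective g
      have hh := fun x => hg2 x trivial
      have hmat : ∀ x, Matrix.toLin' ((h : GL ι F) : Matrix ι ι F) x = (Forms59.toOrth Q h).1 x := fun x => rfl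
      obtain ⟨W, hWd, hW, hinv⟩ := H (h : GL ι F)
        ⟨h, (imag_mem_omega_iff hQ h2 hn (by omega) h hh).2 h2d, rfl⟩
        ⟨-1, by
          refine Matrix.toLin'.injective (LinearMap.ext fun x => ?_)
          rw [pow_two, Units.val_mul, Matrix.toLin'_mul, LinearMap.comp_apply, hmat, hmat, hh, map_smul,
            Matrix.toLin'_one, LinearMap.smul_apply, LinearMap.id_apply, neg_one_smul]⟩
        (fun z hz => by
          have h1 : ∀ x, (Forms59.toOrth Q h).1 x = z • x := fun x => by
            rw [← hmat, hz, map_smul, Matrix.toLin'_one, LinearMap.smul_apply, LinearMap.id_apply]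
          have h3 := polar_apply_self h2 (hh v)
          rw [h1, polar_smul_right, UnitaryOrthogonal.polar_self_eq, smul_eq_mul] at h3
          have hz0 : z = 0 := by simpa [h2, hv] using h3
          have h4 := hh v
          rw [h1, hz0, zero_smul, eq_comm, neg_eq_zero] at h4
          exact hv (by rw [h4, QuadraticMap.map_zero]))
      have := even_of_imag hns ((invariant_iff rfl h W).1 hinv) (fun x _ => hh x)
      rw [hWd] at this
      exact hmo this
  · rintro H _ ⟨h, hh, rfl⟩ ⟨z, hz⟩ hns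
    have hmat : ∀ x, Matrix.toLin' ((h : GL ι F) : Matrix ι ι F) x = (Forms59.toOrth Q h).1 x :=
      fun x => rfl
    have hz' : (((h : GL ι F) ^ 2 : GL ι F) : Matrix ι ι F) = z • (1 : Matrix ι ι F) := hz
    have h1 : ∀ x, (Forms59.toOrth Q h).1 ((Forms59.toOrth Q h).1 x) = z • x := fun x => by
      rw [← hmat, ← hmat, ← LinearMap.comp_apply, ← Matrix.toLin'_mul, ← Units.val_mul, ← pow_two,
        hz', map_smul, Matrix.toLin'_one, LinearMap.smul_apply, LinearMap.id_apply]
    have hz1 : z * z = 1 := by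
      have e := congrArg (fun y => Q y) (h1 v)
      simp only [UnitaryOrthogonal.map_form, form_smul] at e
      exact (mul_eq_right₀ hv).1 e.symm
    set g := Forms59.toOrth Q h with hgdef
    rcases mul_self_eq_one_iff.1 hz1 with rfl | rfl
    · have hg : g ^ 2 = 1 := UnitaryOrthogonal.orth_ext fun x => by
        rw [pow_two, UnitaryOrthogonal.coe_mul_apply, h1, one_smul]; rfl
      obtain ⟨hA, hB, ho, htop, hdim⟩ := eigen_split hQ h2 hg
      obtain ⟨ε₀, h0⟩ := exists_sig hA
      obtain ⟨ε₁, h1'⟩ := exists_sig hB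
      obtain ⟨⟨e, he'⟩, hε⟩ := (invol_mem_omega_iff hQ h2 hcard h hg h1').1 hh
      rw [← hgdef] at he' hε
      rw [show Module.finrank F (mvS g) / 2 = e by omega] at hε
      have hsum := (hA.sup hB ho).2.2.2 _ _ h0 h1'
      rw [htop, sig_even_right ⟨e, he'⟩, mul_one] at hsum
      have hee : ε₀ = ε₁ := by
        have h3 := (sigOn_top hs).unique hsum
        rcases h0.unit with rfl | rfl <;> rcases h1'.unit with rfl | rfl <;> first | rfl | norm_num at h3
      subst hee
      have hv1 := hB.valid h1'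
      have hv0 := hA.valid h0
      rw [hn] at hdim
      obtain ⟨k, hkm, hk, ha⟩ : ∃ k, k ≤ m ∧ TSok (Module.finrank F (mvS g)) ε₀ k ∧
          TSok (Module.finrank F (fixS g)) ε₀ (m - k) := by
        rcases h0.unit with hu | hu
        · refine ⟨m - (d - e), by omega, ?_, ?_⟩ <;> unfold TSok <;> omega
        · have he1 : 1 ≤ e := Nat.one_le_iff_ne_zero.2 fun h => absurd (hu ▸ hv1.zero (by omega)) (by decide)
          have hde : e + 1 ≤ d := by
            by_contra h
            exact absurd (hu ▸ hv0.zero (by omega)) (by decide)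
          have hmd : m + 2 ≤ d := by
            rcases H with H | H
            · rcases hchi with ⟨h3, -⟩ | ⟨-, hc, -⟩
              · omega
              · rw [hc, one_pow, hu] at hε
                exact absurd hε (by decide)
            · exact H.2.1
          refine ⟨m - (d - e - 1), by omega, ?_, ?_⟩ <;> unfold TSok <;> omega
      obtain ⟨W, ⟨hWd, hW⟩, hinv⟩ := invol_exists hQ h2 hg h0 h1' ha hk
      exact ⟨W, by omega, hW, (invariant_iff rfl h W).2 hinv⟩
    · have hneg : ∀ x, g.1 (g.1 x) = -x := fun x => by rw [h1, neg_one_smul]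
      rcases hchi with ⟨h3, hc, hnsq⟩ | ⟨-, -, ⟨i₀, hi₀⟩⟩
      · obtain ⟨H1, H2⟩ : m + 2 ≤ d ∧ (Even m ∨ Odd d ∨ chi (2 : F) ^ d ≠ 1) := by
          rcases H with H | H
          · omega
          · exact H.2
        obtain ⟨k, hk', hks, -, -⟩ := imag_struct h2 g _ ⊤ rfl (ndOn_top hQ)
          (fun _ _ => trivial) (fun x _ => hneg x)
        rw [htopd] at hk'
        obtain rfl : k = d := by omega
        have hev : Even k := by
          by_contra hno
          have := (sigOn_top hs).unique hks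
          rw [hc, (Nat.not_even_iff_odd.1 hno).neg_one_pow] at this
          exact absurd this (by decide)
        obtain ⟨t, ht⟩ : Even m := by
          rcases H2 with h' | h' | h'
          · exact h'
          · exact absurd hev (Nat.not_even_iff_odd.2 h')
          · exact absurd ((imag_mem_omega_iff hQ h2 hn (by omega) h hneg).1 hh) h'
        obtain ⟨T, -, hTi, hT0, hTd⟩ := imag_ts h2 hnsq g t ⊤ (ndOn_top hQ) (fun _ _ => trivial)
          (fun x _ => hneg x) (by omega)
        exact ⟨T, by omega, hT0, (invariant_iff rfl h T).2 hTi⟩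
      · obtain ⟨W, ⟨hWd, hW⟩, hinv⟩ := imag_split hQ h2 hneg hi₀.symm hn hm.le
        exact ⟨W, hWd, hW, (invariant_iff rfl h W).2 hinv⟩

end Cfsg.Agent.OrthFix.TS
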