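import Cfsg.Agent.OrthFix.TS.Two

/-!
Elements of order two modulo scalars and totally singular subspaces, minus type.
-/

set_option autoImplicit false
set_option linter.unusedSectionVars false

namespace Cfsg.Agent.OrthFix.TS

open QuadraticMap
open Cfsg.Agent.UnitaryOrthogonal (PolarND orth form_smul polar_self_eq)

universe u

variable {F : Type u} [Field F] [Fintype F] {ι : Type} [Fintype ι] [DecidableEq ι]
  {Q : QuadraticForm F (ι → F)} {f : (ι → F) → F}

/-- Elements of order two modulo scalars and totally singular subspaces, minus type. -/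
theorem forall_two_minus_iff (hf : ⇑Q = f) (hQ : PolarND Q) (h2 : (2 : F) ≠ 0) {d : ℕ}
    (hn : Module.finrank F (ι → F) = 2 * d) (hd : 2 ≤ d) (hs : Sig Q (-1)) {m : ℕ} (hm : m < d) :
    (∀ x : GL ι F, x ∈ Geo.omegaGL f →
      (∃ z : F, ((x ^ 2 : GL ι F) : Matrix ι ι F) = z • (1 : Matrix ι ι F)) →
      (∀ z : F, (x : Matrix ι ι F) ≠ z • (1 : Matrix ι ι F)) →
      ∃ W : Submodule F (ι → F), Module.finrank F W = m ∧ (∀ w ∈ W, f w = 0) ∧
        W.map (Matrix.toLin' (x : Matrix ι ι F)) ≤ W) ↔
    (Even d ∨ Even m ∨ Fintype.card F % 8 ≠ 7) := by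
  subst hf
  have htopd : Module.finrank F (⊤ : Submodule F (ι → F)) = 2 * d := by rw [finrank_top, hn]
  have hcard : 2 ≤ Fintype.card ι := by rw [← Module.finrank_fintype_fun_eq_card F, hn]; omega
  obtain ⟨j⟩ : Nonempty ι := Fintype.card_pos_iff.1 (by omega)
  have he : (Pi.single j (1 : F) : ι → F) ≠ 0 := by simp
  obtain ⟨v, hv⟩ := exists_form_ne_zero hQ he
  have hchi := chi_neg_one_cases h2
  constructor
  · intro H
    by_contra hcon
    simp only [not_or, not_not] at hcon
    obtain ⟨hdo, hmo, h87⟩ := hcon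
    have hdo' : Odd d := Nat.not_even_iff_odd.1 hdo
    rcases hchi with ⟨h3, hc, hns⟩ | ⟨h1, -⟩
    swap
    · omega
    have h2d : chi (2 : F) ^ d = 1 := by rw [chi_two_eq h2, if_neg (by omega), one_pow]
    obtain ⟨g, -, hg2, -⟩ := exists_imag h2 d (ndOn_top hQ) htopd (by
      rw [hc, hdo'.neg_one_pow]; exact sigOn_top hs)
    obtain ⟨h, rfl⟩ := (Forms59.toOrth Q).surjective g
    have hh := fun x => hg2 x trivial
    have hmat : ∀ x, Matrix.toLin' ((h : GL ι F) : Matrix ι ι F) x = (Forms59.toOrth Q h).1 x := fun x => rfl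
    obtain ⟨W, hWd, hW, hinv⟩ := H (h : GL ι F)
      ⟨h, (imag_mem_omega_iff hQ h2 hn (by omega) h hh).2 h2d, rfl⟩
      ⟨-1, by
        refine Matrix.toLin'.injective (LinearMap.ext fun x => ?_)
        rw [pow_two, Units.val_mul, Matrix.toLin'_mul, LinearMap.comp_apply, hmat, hmat, hh, map_smul,
          Matrix.toLin'_one, LinearMap.smul_apply, LinearMap.id_apply, neg_one_smul]⟩
      (fun z hz => by
        have h1 : ∀ x, (Forms59.toOrth Q h).1 x = z • x := fun x => by
          rw [← hmat, hz, map_smul, Matrix.toLin'_one, LinearMap.smul_apply, LinearMap.id_apply]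
        have h3 := polar_apply_self h2 (hh v)
        rw [h1, polar_smul_right, UnitaryOrthogonal.polar_self_eq, smul_eq_mul] at h3
        have hz0 : z = 0 := by simpa [h2, hv] using h3
        have h4 := hh v
        rw [h1, hz0, zero_smul, eq_comm, neg_eq_zero] at h4
        exact hv (by rw [h4, QuadraticMap.map_zero]))
    have := even_of_imag hns ((invariant_iff rfl h W).1 hinv) (fun x _ => hh x)
    rw [hWd] at this
    exact hmo this
  · rintro H _ ⟨h, hh, rfl⟩ ⟨z, hz⟩ hns
    have hmat : ∀ x, Matrix.toLin' ((h : GL ι F) : Matrix ι ι F) x = (Forms59.toOrth Q h).1 x :=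
      fun x => rfl
    have hz' : (((h : GL ι F) ^ 2 : GL ι F) : Matrix ι ι F) = z • (1 : Matrix ι ι F) := hz
    have h1 : ∀ x, (Forms59.toOrth Q h).1 ((Forms59.toOrth Q h).1 x) = z • x := fun x => by
      rw [← hmat, ← hmat, ← LinearMap.comp_apply, ← Matrix.toLin'_mul, ← Units.val_mul, ← pow_two,
        hz', map_smul, Matrix.toLin'_one, LinearMap.smul_apply, LinearMap.id_apply]
    have hz1 : z * z = 1 := by
      have e := congrArg (fun y => Q y) (h1 v)
      simp only [UnitaryOrthogonal.map_form, form_smul] at e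
      exact (mul_eq_right₀ hv).1 e.symm
    set g := Forms59.toOrth Q h with hgdef
    rcases mul_self_eq_one_iff.1 hz1 with rfl | rfl
    · have hg : g ^ 2 = 1 := UnitaryOrthogonal.orth_ext fun x => by
        rw [pow_two, UnitaryOrthogonal.coe_mul_apply, h1, one_smul]; rfl
      obtain ⟨hA, hB, ho, htop, hdim⟩ := eigen_split hQ h2 hg
      obtain ⟨ε₀, h0⟩ := exists_sig hA
      obtain ⟨ε₁, h1'⟩ := exists_sig hB
      obtain ⟨⟨e, he'⟩, -⟩ := (invol_mem_omega_iff hQ h2 hcard h hg h1').1 hh
      rw [← hgdef] at he'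
      have hsum := (hA.sup hB ho).2.2.2 _ _ h0 h1'
      rw [htop, sig_even_right ⟨e, he'⟩, mul_one] at hsum
      have h3 := (sigOn_top hs).unique hsum
      have hv1 := hB.valid h1'
      have hv0 := hA.valid h0
      rw [hn] at hdim
      obtain ⟨k, hkm, hk, ha⟩ : ∃ k, k ≤ m ∧ TSok (Module.finrank F (mvS g)) ε₁ k ∧
          TSok (Module.finrank F (fixS g)) ε₀ (m - k) := by
        rcases h0.unit with hu | hu
        · have hu1 : ε₁ = -1 := by rw [hu, one_mul] at h3; exact h3.symm
          have he1 : 1 ≤ e := Nat.one_le_iff_ne_zero.2 fun h => absurd (hu1 ▸ hv1.zero (by omega)) (by decide)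
          refine ⟨m - (d - e), by omega, ?_, ?_⟩ <;> unfold TSok <;> omega
        · have hu1 : ε₁ = 1 := by rw [hu] at h3; linarith
          have hde : e + 1 ≤ d := by
            by_contra h
            exact absurd (hu ▸ hv0.zero (by omega)) (by decide)
          refine ⟨m - (d - e - 1), by omega, ?_, ?_⟩ <;> unfold TSok <;> omega
      obtain ⟨W, ⟨hWd, hW⟩, hinv⟩ := invol_exists hQ h2 hg h0 h1' ha hk
      exact ⟨W, by omega, hW, (invariant_iff rfl h W).2 hinv⟩
    · have hneg : ∀ x, g.1 (g.1 x) = -x := fun x => by rw [h1, neg_one_smul]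
      rcases hchi with ⟨h3, hc, hnsq⟩ | ⟨-, -, ⟨i₀, hi₀⟩⟩
      · obtain ⟨k, hk', hks, -, -⟩ := imag_struct h2 g _ ⊤ rfl (ndOn_top hQ)
          (fun _ _ => trivial) (fun x _ => hneg x)
        rw [htopd] at hk'
        obtain rfl : k = d := by omega
        have hodd : ¬ Even k := fun hev => by
          have := (sigOn_top hs).unique hks
          rw [hc, hev.neg_one_pow] at this
          exact absurd this (by decide)
        obtain ⟨t, ht⟩ : Even m := by
          rcases H with h' | h' | h'
          · exact absurd h' hodd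
          · exact h'
          · exfalso
            have h5 := (imag_mem_omega_iff hQ h2 hn (by omega) h hneg).1 hh
            rw [chi_two_eq h2, if_pos (by omega), (Nat.not_even_iff_odd.1 hodd).neg_one_pow] at h5
            exact absurd h5 (by decide)
        obtain ⟨T, -, hTi, hT0, hTd⟩ := imag_ts h2 hnsq g t ⊤ (ndOn_top hQ) (fun _ _ => trivial)
          (fun x _ => hneg x) (by omega)
        exact ⟨T, by omega, hT0, (invariant_iff rfl h T).2 hTi⟩
      · obtain ⟨W, ⟨hWd, hW⟩, hinv⟩ := imag_split hQ h2 hneg hi₀.symm hn hm.le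
        exact ⟨W, hWd, hW, (invariant_iff rfl h W).2 hinv⟩

end Cfsg.Agent.OrthFix.TS
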